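import Groth.Agent.KFlat.Flat

/-!
# `j_{U!} O_U` is the free sheaf of modules on `U`
-/

set_option autoImplicit false

universe u

open CategoryTheory CategoryTheory.Limits Opposite

namespace Groth.Agent.ModFlat

variable {C : Type u} [SmallCategory C] {J : GrothendieckTopology C} (O : Sheaf J CommRingCat.{u})

open ModSite

/-- Global sections over the slice at `U` are sections over `U`. -/
noncomputable def overSectionsEquiv (U : C) (M : ModSite.Mod O) :
    ((restr O U).obj M).sections ≃ M.val.obj (op U) where
  toFun s := s.val (op (Over.mk (𝟙 U)))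
  invFun m := PresheafOfModules.sectionsMk (fun V => M.val.map V.unop.hom.op m) (fun V W g => by
    change M.val.map g.unop.left.op (M.val.map V.unop.hom.op m) = M.val.map W.unop.hom.op m
    rw [← PresheafOfModules.map_comp_apply, ← op_comp, Over.w])
  left_inv s := by
    refine Subtype.ext (funext fun V => ?_)
    exact s.property (Over.homMk V.unop.hom (by simp) : V.unop ⟶ Over.mk (𝟙 U)).op
  right_inv m := by
    change M.val.map (𝟙 U).op m = m
    rw [op_id, PresheafOfModules.map_id]
    rfl

/-- Maps out of `freeOn O U` are the sections over `U`. -/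
noncomputable def freeOnEquiv (U : C) (M : ModSite.Mod O) : (freeOn O U ⟶ M) ≃ M.val.obj (op U) :=
  (((extZeroAdj O U).homEquiv (SheafOfModules.unit _) M).trans
    ((restr O U).obj M).unitHomEquiv).trans (overSectionsEquiv O U M)

theorem freeOnEquiv_comp (U : C) {M N : ModSite.Mod O} (g : freeOn O U ⟶ M) (f : M ⟶ N) :
    freeOnEquiv O U N (g ≫ f) = f.val.app _ (freeOnEquiv O U M g) := by
  change overSectionsEquiv O U N (((restr O U).obj N).unitHomEquiv
    ((extZeroAdj O U).homEquiv _ N (g ≫ f))) = _
  rw [(extZeroAdj O U).homEquiv_naturality_right, SheafOfModules.unitHomEquiv_comp_apply]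
  rfl

/-- `j_{U!} O_U` is the sheafification of the free presheaf of modules on `U`. -/
noncomputable def freeOnIsoFreeU (U : C) : freeOn O U ≅ KFlat.freeU O U where
  hom := (freeOnEquiv O U _).symm (KFlat.freeUEquiv U _ (𝟙 _))
  inv := (KFlat.freeUEquiv U _).symm (freeOnEquiv O U _ (𝟙 _))
  hom_inv_id := (freeOnEquiv O U _).injective (by
    rw [freeOnEquiv_comp, Equiv.apply_symm_apply, ← KFlat.freeUEquiv_comp, Category.id_comp,
      Equiv.apply_symm_apply])
  inv_hom_id := (KFlat.freeUEquiv U _).injective (by
    rw [KFlat.freeUEquiv_comp, Equiv.apply_symm_apply, ← freeOnEquiv_comp, Category.id_comp,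
      Equiv.apply_symm_apply])

theorem tensorMono_of_iso {F G : ModSite.Mod O} (e : F ≅ G) (h : KFlat.TensorMono F) :
    KFlat.TensorMono G :=
  have : ((tensorBi O).flip.obj F).PreservesMonomorphisms := h
  Functor.PreservesMonomorphisms.of_iso ((tensorBi O).flip.mapIso e)

theorem tensorMono_freeOn (U : C) : KFlat.TensorMono (freeOn O U) :=
  tensorMono_of_iso O (freeOnIsoFreeU O U).symm (KFlat.tensorMono_freeU U)

theorem isSeparating_freeOn :
    (ObjectProperty.ofObj fun U : C => freeOn O U).IsSeparating := by
  intro M N f g h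
  apply SheafOfModules.hom_ext
  ext ⟨U⟩ m
  obtain ⟨φ, rfl⟩ := (freeOnEquiv O U M).surjective m
  simpa only [freeOnEquiv_comp] using congrArg (freeOnEquiv O U N) (h _ ⟨U⟩ φ)

end Groth.Agent.ModFlat
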