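import Groth.Agent.KFlat.Cells
import Groth.Agent.ModFlat.Free
import Mathlib.Algebra.Homology.ShortComplex.SnakeLemma
import Mathlib.Algebra.Homology.ShortComplex.Limits
import Mathlib.CategoryTheory.Limits.Preserves.Shapes.Kernels

/-!
# Flat sheaves of modules: exact sequences, colimits, tensor products
-/

set_option autoImplicit false

universe u

open CategoryTheory CategoryTheory.Limits MonoidalCategory Opposite

namespace Groth.Agent.ModFlat

variable {C : Type u} [SmallCategory C] {J : GrothendieckTopology C} {O : Sheaf J CommRingCat.{u}}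

open ModSite Groth.Agent.KFlat

/-- Tensoring with a sheafified presheaf. -/
noncomputable def tensorShPreIso (Q : preMod O) :
    toPre O ⋙ tensorRight Q ⋙ shPre O ≅ (tensorBi O).flip.obj ((shPre O).obj Q) :=
  NatIso.ofComponents
    (fun M => (asIso ((shPre O).map ((toPre O).obj M ◁ (preAdj O).unit.app Q)) :))
    (fun {M N} g => by
      dsimp [tensorBi_flip_obj_eq]
      rw [← Functor.map_comp, ← Functor.map_comp, whisker_exchange])

/-- Associativity of the tensor product, as functors of the left variable. -/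
noncomputable def tensorAssocIso (G F : ModSite.Mod O) :
    (tensorBi O).flip.obj G ⋙ (tensorBi O).flip.obj F ≅
      (tensorBi O).flip.obj (((tensorBi O).obj G).obj F) :=
  Functor.isoWhiskerLeft (toPre O ⋙ tensorRight ((toPre O).obj G)) (shPreCompTensorRight O F) ≪≫
    Functor.isoWhiskerLeft (toPre O)
      (Functor.isoWhiskerRight (tensorRightTensor ((toPre O).obj G) ((toPre O).obj F)).symm (shPre O)) ≪≫
    tensorShPreIso ((toPre O).obj G ⊗ (toPre O).obj F)

theorem tensorMono_tensor {G F : ModSite.Mod O} (hG : TensorMono G) (hF : TensorMono F) :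
    TensorMono (((tensorBi O).obj G).obj F) := by
  have : ((tensorBi O).flip.obj G).PreservesMonomorphisms := hG
  have : ((tensorBi O).flip.obj F).PreservesMonomorphisms := hF
  exact Functor.PreservesMonomorphisms.of_iso (tensorAssocIso G F)

section Exact

variable (S : ShortComplex (ModSite.Mod O))

/-- Tensoring a short exact sequence with a flat quotient gives a short exact sequence. -/
theorem shortExact_map_tensorBi_obj (hS : S.ShortExact) (h₃ : TensorMono S.X₃) (G : ModSite.Mod O) :
    (S.map ((tensorBi O).obj G)).ShortExact := by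
  have hmono := hS.mono_f
  have hepi := hS.epi_g
  let P := freeCover O G
  let π : P ⟶ G := freeCoverπ O G
  have hP : TensorMono P := tensorMono_freeCover O G
  let ι := kernel.ι π
  have hπ : IsColimit (CokernelCofork.ofπ (f := ι) π (kernel.condition π)) :=
    Abelian.epiIsCokernelOfKernel (KernelFork.ofι ι (kernel.condition π)) (kernelIsKernel π)
  let v₁₂ := S.mapNatTrans ((tensorBi O).map ι)
  let v₂₃ := S.mapNatTrans ((tensorBi O).map π)
  have hcol : ∀ X : ModSite.Mod O,
      IsColimit (CokernelCofork.ofπ (f := ((tensorBi O).flip.obj X).map ι) (((tensorBi O).flip.obj X).map π)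
        (by rw [← Functor.map_comp, kernel.condition, Functor.map_zero])) := fun X =>
    CokernelCofork.mapIsColimit _ hπ ((tensorBi O).flip.obj X)
  have w : v₁₂ ≫ v₂₃ = 0 := by
    refine ShortComplex.hom_ext _ _ ?_ ?_ ?_ <;>
      exact ((((tensorBi O).flip.obj _).map_comp ι π).symm.trans
        ((congrArg _ (kernel.condition π)).trans (Functor.map_zero _ _ _)))
  have hep : ∀ X : ModSite.Mod O, Epi ((((tensorBi O).obj X)).map S.g) := fun X => inferInstance
  have hrex : ∀ X : ModSite.Mod O, (S.map ((tensorBi O).obj X)).Exact := fun X =>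
    hS.exact.map_of_epi_of_preservesCokernel _ hepi inferInstance
  have hP' : Mono (((tensorBi O).obj P).map S.f) := by
    have : ((tensorBi O).flip.obj P).PreservesMonomorphisms := hP
    have : ((tensorBi O).obj P).PreservesMonomorphisms :=
      Functor.PreservesMonomorphisms.of_iso ((tensorBiFlipIso O).app P)
    infer_instance
  let snk : ShortComplex.SnakeInput (ModSite.Mod O) :=
    { L₀ := kernel v₁₂
      L₁ := S.map ((tensorBi O).obj (kernel π))
      L₂ := S.map ((tensorBi O).obj P)
      L₃ := S.map ((tensorBi O).obj G)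
      v₀₁ := kernel.ι v₁₂
      v₁₂ := v₁₂
      v₂₃ := v₂₃
      w₀₂ := kernel.condition _
      w₁₃ := w
      h₀ := kernelIsKernel _
      h₃ := ShortComplex.isColimitOfIsColimitπ _
        ((CokernelCofork.isColimitMapCoconeEquiv _ _).symm (hcol S.X₁))
        ((CokernelCofork.isColimitMapCoconeEquiv _ _).symm (hcol S.X₂))
        ((CokernelCofork.isColimitMapCoconeEquiv _ _).symm (hcol S.X₃))
      L₁_exact := hrex _
      epi_L₁_g := hep _
      L₂_exact := hrex _
      mono_L₂_f := hP' }
  have h₀ : snk.v₀₁.τ₃ = 0 := by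
    have : Mono snk.v₁₂.τ₃ := h₃.preserves ι
    exact zero_of_comp_mono snk.v₁₂.τ₃ snk.w₀₂_τ₃
  have hm₀ : Mono snk.v₀₁.τ₃ := ShortComplex.SnakeInput.mono_v₀₁_τ₃ snk
  have hδ : snk.δ = 0 := by
    have : IsZero snk.L₀.X₃ := IsZero.of_mono_eq_zero snk.v₀₁.τ₃ h₀
    exact this.eq_of_src _ _
  exact { exact := hrex G, mono_f := snk.L₂'_exact.mono_g hδ, epi_g := hep G }

theorem shortExact_map_flip (hS : S.ShortExact) (h₃ : TensorMono S.X₃) (G : ModSite.Mod O) :
    (S.map ((tensorBi O).flip.obj G)).ShortExact :=
  ShortComplex.shortExact_of_iso (S.mapNatIso ((tensorBiFlipIso O).app G).symm)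
    (shortExact_map_tensorBi_obj S hS h₃ G)

theorem tensorMono_middle (hS : S.ShortExact) (h₁ : TensorMono S.X₁) (h₃ : TensorMono S.X₃) :
    TensorMono S.X₂ := by
  refine ⟨fun {M N} φ _ => ?_⟩
  have hM := shortExact_map_tensorBi_obj S hS h₃ M
  have hN := shortExact_map_tensorBi_obj S hS h₃ N
  let τ := S.mapNatTrans ((tensorBi O).map φ)
  have := hM.mono_f
  have := hN.mono_f
  have : Mono τ.τ₁ := h₁.preserves φ
  have : Mono τ.τ₃ := h₃.preserves φ
  exact ShortComplex.mono_τ₂_of_exact_of_mono τ hM.exact

theorem tensorMono_left (hS : S.ShortExact) (h₂ : TensorMono S.X₂) (h₃ : TensorMono S.X₃) :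
    TensorMono S.X₁ := by
  refine ⟨fun {M N} φ _ => ?_⟩
  have hM := (shortExact_map_tensorBi_obj S hS h₃ M).mono_f
  have : Mono (((tensorBi O).map φ).app S.X₂) := h₂.preserves φ
  have h := ((tensorBi O).map φ).naturality S.f
  have : Mono (((tensorBi O).map φ).app S.X₁ ≫ ((tensorBi O).obj N).map S.f) := by
    rw [← h]
    exact mono_comp' hM this
  exact mono_of_mono (((tensorBi O).map φ).app S.X₁) (((tensorBi O).obj N).map S.f)

end Exact

theorem tensorMono_of_isColimit_small {K : Type u} [Category.{u} K]
    [HasExactColimitsOfShape K (ModSite.Mod O)] {D : K ⥤ ModSite.Mod O} {c : Cocone D}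
    (hc : IsColimit c) (h : ∀ j, TensorMono (D.obj j)) : TensorMono c.pt :=
  tensorMono_of_isColimit hc h

end Groth.Agent.ModFlat
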