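import Groth.Agent.KFlat.Closure
import Groth.Agent.ModFlat.Basic
import Mathlib.Algebra.Homology.BifunctorAssociator

/-!
# Associativity of the tensor product of sheaves of modules and of their complexes
-/

set_option autoImplicit false

universe u

open CategoryTheory CategoryTheory.Limits MonoidalCategory ModSite
open Groth.Agent.KFlat

namespace Groth.Agent.ModFlat

variable {C : Type u} [SmallCategory C] {J : GrothendieckTopology C} {O : Sheaf J CommRingCat.{u}}

/-- `(A ⊗ B) ⊗ D ≅ A ⊗ (B ⊗ D)`. -/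
noncomputable def assocApp (A B D : Mod O) :
    ((tensorBi O).obj (((tensorBi O).obj A).obj B)).obj D ≅
      ((tensorBi O).obj A).obj (((tensorBi O).obj B).obj D) :=
  (asIso ((shPre O).map ((preAdj O).unit.app ((toPre O).obj A ⊗ (toPre O).obj B) ▷ (toPre O).obj D))).symm ≪≫
    (shPre O).mapIso (α_ ((toPre O).obj A) ((toPre O).obj B) ((toPre O).obj D)) ≪≫
    (asIso ((shPre O).map ((toPre O).obj A ◁ (preAdj O).unit.app ((toPre O).obj B ⊗ (toPre O).obj D))) :)

theorem glue_natural {A : Type*} [Category A] {P P' Q Q' R R' S S' : A} (u : P ⟶ Q) (u' : P' ⟶ Q')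
    [IsIso u] [IsIso u'] (α : P ⟶ R) (α' : P' ⟶ R') (v : R ⟶ S) (v' : R' ⟶ S') (a : Q ⟶ Q')
    (b : P ⟶ P') (c : R ⟶ R') (z : S ⟶ S') (h₁ : u ≫ a = b ≫ u') (h₂ : b ≫ α' = α ≫ c)
    (h₃ : v ≫ z = c ≫ v') : a ≫ inv u' ≫ α' ≫ v' = (inv u ≫ α ≫ v) ≫ z := by
  rw [← cancel_epi u, reassoc_of% h₁, IsIso.hom_inv_id_assoc, reassoc_of% h₂]
  simp [h₃]

theorem assocApp_natural {A A' B B' D D' : Mod O} (f : A ⟶ A') (g : B ⟶ B') (h : D ⟶ D') :
    ((tensorBi O).map (((tensorBi O).map f).app B ≫ ((tensorBi O).obj A').map g)).app D ≫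
        ((tensorBi O).obj (((tensorBi O).obj A').obj B')).map h ≫ (assocApp A' B' D').hom =
      (assocApp A B D).hom ≫ ((tensorBi O).map f).app _ ≫
        ((tensorBi O).obj A').map (((tensorBi O).map g).app D ≫ ((tensorBi O).obj B').map h) := by
  let F := toPre O
  let S := shPre O
  have hu₁ : ∀ {P Q : preMod O} (k : P ⟶ Q), k ≫ (preAdj O).unit.app Q =
      (preAdj O).unit.app P ≫ F.map (S.map k) := fun k => (preAdj O).unit.naturality k
  have h₁ : ((tensorBi O).map f).app B ≫ ((tensorBi O).obj A').map g =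
      S.map (F.map f ⊗ₘ F.map g) := by
    rw [MonoidalCategory.tensorHom_def, S.map_comp]
    rfl
  have h₂ : ((tensorBi O).map g).app D ≫ ((tensorBi O).obj B').map h =
      S.map (F.map g ⊗ₘ F.map h) := by
    rw [MonoidalCategory.tensorHom_def, S.map_comp]
    rfl
  rw [h₁, h₂]
  change S.map (F.map (S.map (F.map f ⊗ₘ F.map g)) ▷ F.obj D) ≫
      S.map (F.obj (S.obj (F.obj A' ⊗ F.obj B')) ◁ F.map h) ≫ _ =
    _ ≫ S.map (F.map f ▷ F.obj (S.obj (F.obj B ⊗ F.obj D))) ≫
      S.map (F.obj A' ◁ F.map (S.map (F.map g ⊗ₘ F.map h)))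
  rw [← S.map_comp_assoc, ← S.map_comp, ← MonoidalCategory.tensorHom_def,
    ← MonoidalCategory.tensorHom_def]
  have key₁ : (preAdj O).unit.app (F.obj A ⊗ F.obj B) ▷ F.obj D ≫
      (F.map (S.map (F.map f ⊗ₘ F.map g)) ⊗ₘ F.map h) =
      ((F.map f ⊗ₘ F.map g) ⊗ₘ F.map h) ≫ (preAdj O).unit.app (F.obj A' ⊗ F.obj B') ▷ F.obj D' := by
    rw [← MonoidalCategory.tensorHom_id, ← MonoidalCategory.tensorHom_id,
      MonoidalCategory.tensorHom_comp_tensorHom, MonoidalCategory.tensorHom_comp_tensorHom,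
      hu₁, Category.id_comp, Category.comp_id]
  have key₂ : F.obj A ◁ (preAdj O).unit.app (F.obj B ⊗ F.obj D) ≫
      (F.map f ⊗ₘ F.map (S.map (F.map g ⊗ₘ F.map h))) =
      (F.map f ⊗ₘ (F.map g ⊗ₘ F.map h)) ≫ F.obj A' ◁ (preAdj O).unit.app (F.obj B' ⊗ F.obj D') := by
    rw [← MonoidalCategory.id_tensorHom, ← MonoidalCategory.id_tensorHom,
      MonoidalCategory.tensorHom_comp_tensorHom, MonoidalCategory.tensorHom_comp_tensorHom,
      hu₁, Category.id_comp, Category.comp_id]
  have e₁ := congrArg S.map key₁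
  have e₂ := congrArg S.map key₂
  have e₃ := congrArg S.map (MonoidalCategory.associator_naturality (F.map f) (F.map g) (F.map h))
  rw [S.map_comp, S.map_comp] at e₁ e₂ e₃
  exact glue_natural (S.map ((preAdj O).unit.app (F.obj A ⊗ F.obj B) ▷ F.obj D))
    (S.map ((preAdj O).unit.app (F.obj A' ⊗ F.obj B') ▷ F.obj D')) (S.map (α_ _ _ _).hom)
    (S.map (α_ _ _ _).hom) _ _ _ _ _ _ e₁ e₃ e₂

variable (O) in
/-- Associativity of the tensor product, natural in the three variables. -/
noncomputable def tensorBiAssoc :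
    bifunctorComp₁₂ (tensorBi O) (tensorBi O) ≅ bifunctorComp₂₃ (tensorBi O) (tensorBi O) :=
  NatIso.ofComponents
    (fun A => NatIso.ofComponents
      (fun B => NatIso.ofComponents (fun D => assocApp A B D) (fun {D D'} h => by
        have := assocApp_natural (𝟙 A) (𝟙 B) h
        simp at this
        exact this))
      (fun {B B'} g => by
        ext D : 2
        have := assocApp_natural (𝟙 A) g (𝟙 D)
        simp at this
        exact this))
    (fun {A A'} f => by
      ext B D : 4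
      have := assocApp_natural f (𝟙 B) (𝟙 D)
      simp at this
      exact this)

theorem preservesColimit_small (T : Mod O ⥤ Mod O) [PreservesColimitsOfSize.{u, u} T] {I : Type}
    (X : I → Mod O) : PreservesColimit (Discrete.functor X) T :=
  have := preservesSmallestColimits_of_preservesColimits T
  inferInstance

/-- Associativity of the total tensor product of complexes. -/
noncomputable def tensAssoc (F K L : CochainComplex (Mod O) ℤ) :
    ((tens O).obj (((tens O).obj F).obj K)).obj L ≅ ((tens O).obj F).obj (((tens O).obj K).obj L) :=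
  haveI : HomologicalComplex.HasGoodTrifunctor₁₂Obj (tensorBi O) (tensorBi O) F K L
      (ComplexShape.up ℤ) (ComplexShape.up ℤ) := fun _ _ => preservesColimit_small _ _
  haveI : HomologicalComplex.HasGoodTrifunctor₂₃Obj (tensorBi O) (tensorBi O) F K L
      (ComplexShape.up ℤ) (ComplexShape.up ℤ) (ComplexShape.up ℤ) := fun _ _ =>
    preservesColimit_small _ _
  HomologicalComplex.mapBifunctorAssociator (tensorBiAssoc O) F K L _ _ _

theorem isKFlat_tens {K L : CochainComplex (Mod O) ℤ} (hK : ModSite.IsKFlat K) (hL : ModSite.IsKFlat L) :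
    ModSite.IsKFlat (((tens O).obj K).obj L) :=
  (isKFlat_iff _).2 fun F hF => acyclic_of_iso (tensAssoc F K L)
    ((isKFlat_iff _).1 hL _ ((isKFlat_iff _).1 hK F hF))

end Groth.Agent.ModFlat
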