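import Groth.Agent.ModShf.GrothAb
import Mathlib.Algebra.Category.ModuleCat.Sheaf.PushforwardContinuous
import Mathlib.Algebra.Category.ModuleCat.Sheaf.Localization
import Mathlib.CategoryTheory.Sites.PreservesLocallyBijective
import Mathlib.CategoryTheory.Adjunction.AdjointFunctorTheorems
import Mathlib.CategoryTheory.Abelian.Subobject

/-!
# Restriction of modules along cocontinuous functors commutes with sheafification
-/

set_option autoImplicit false

universe u

open CategoryTheory CategoryTheory.Limits Opposite

namespace Groth.Agent.ModFlat.Cocont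

variable {C : Type u} [SmallCategory C] {D : Type u} [SmallCategory D]
  {J : GrothendieckTopology C} {K : GrothendieckTopology D} {F : C ⥤ D}
  [F.IsContinuous J K] [F.IsCocontinuous J K]
  {S : Sheaf J RingCat.{u}} {R : Sheaf K RingCat.{u}}
  (φ : S ⟶ (F.sheafPushforwardContinuous RingCat.{u} J K).obj R)

/-- Restriction of presheaves of modules. -/
noncomputable abbrev restPre : PresheafOfModules.{u} R.obj ⥤ PresheafOfModules.{u} S.obj :=
  PresheafOfModules.pushforward φ.hom

instance isIso_unit_map (P : PresheafOfModules.{u} R.obj) :
    IsIso ((PresheafOfModules.sheafification (𝟙 S.obj)).map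
      ((restPre φ).map ((PresheafOfModules.sheafificationAdjunction (𝟙 R.obj)).unit.app P))) := by
  let u := (PresheafOfModules.toPresheaf _).map
    ((PresheafOfModules.sheafificationAdjunction (𝟙 R.obj)).unit.app P)
  have hu : IsIso ((PresheafOfModules.sheafification (𝟙 R.obj)).map
      ((PresheafOfModules.sheafificationAdjunction (𝟙 R.obj)).unit.app P)) := by
    let adj := PresheafOfModules.sheafificationAdjunction (𝟙 R.obj)
    have h2 : IsIso ((PresheafOfModules.sheafification (𝟙 R.obj)).map (adj.unit.app P) ≫
        adj.counit.app ((PresheafOfModules.sheafification (𝟙 R.obj)).obj P)) := by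
      rw [adj.left_triangle_components P]; infer_instance
    exact IsIso.of_isIso_comp_right _ (adj.counit.app _)
  have hb := (MorphismProperty.ext_iff.1
    (PresheafOfModules.inverseImage_W_toPresheaf_eq_inverseImage_isomorphisms (J := K) (𝟙 R.obj))
    _).2 hu
  rw [MorphismProperty.inverseImage_iff, GrothendieckTopology.W_iff_isLocallyBijective] at hb
  have h₁ : Presheaf.IsLocallyInjective J (Functor.whiskerLeft F.op u) :=
    haveI := hb.1; Presheaf.isLocallyInjective_whisker J K F u
  have h₂ : Presheaf.IsLocallySurjective J (Functor.whiskerLeft F.op u) :=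
    haveI := hb.2; Presheaf.isLocallySurjective_whisker J K F u
  refine (MorphismProperty.ext_iff.1
    (PresheafOfModules.inverseImage_W_toPresheaf_eq_inverseImage_isomorphisms (J := J) (𝟙 S.obj))
    _).1 ?_
  rw [MorphismProperty.inverseImage_iff, GrothendieckTopology.W_iff_isLocallyBijective]
  exact ⟨h₁, h₂⟩

/-- Restriction along a cocontinuous functor commutes with sheafification. -/
noncomputable def restSheafifyIso :
    restPre φ ⋙ PresheafOfModules.sheafification (𝟙 S.obj) ≅
      PresheafOfModules.sheafification (𝟙 R.obj) ⋙ SheafOfModules.pushforward φ :=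
  NatIso.ofComponents
    (fun P => asIso ((PresheafOfModules.sheafification (𝟙 S.obj)).map
        ((restPre φ).map ((PresheafOfModules.sheafificationAdjunction (𝟙 R.obj)).unit.app P))) ≪≫
      (asIso (PresheafOfModules.sheafificationAdjunction (𝟙 S.obj)).counit).app
        ((SheafOfModules.pushforward φ).obj ((PresheafOfModules.sheafification (𝟙 R.obj)).obj P)))
    (fun {P Q} f => by
      let adjR := PresheafOfModules.sheafificationAdjunction (𝟙 R.obj)
      let adjS := PresheafOfModules.sheafificationAdjunction (𝟙 S.obj)
      let G := PresheafOfModules.sheafification (𝟙 S.obj)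
      let H := PresheafOfModules.sheafification (𝟙 R.obj)
      let T := SheafOfModules.pushforward φ
      have h₁ : G.map ((restPre φ).map f) ≫ G.map ((restPre φ).map (adjR.unit.app Q)) =
          G.map ((restPre φ).map (adjR.unit.app P)) ≫
            G.map ((SheafOfModules.forget _).map (T.map (H.map f))) := by
        rw [← Functor.map_comp, ← Functor.map_comp, ← Functor.map_comp]
        refine (congrArg (fun t => G.map ((restPre φ).map t)) (adjR.unit.naturality f)).trans
          (congrArg G.map ?_)
        exact (restPre φ).map_comp _ _
      change G.map ((restPre φ).map f) ≫ (G.map ((restPre φ).map (adjR.unit.app Q)) ≫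
          adjS.counit.app (T.obj (H.obj Q))) =
        (G.map ((restPre φ).map (adjR.unit.app P)) ≫ adjS.counit.app (T.obj (H.obj P))) ≫
          T.map (H.map f)
      refine (Category.assoc _ _ _).symm.trans ((congrArg (· ≫ _) h₁).trans
        ((Category.assoc _ _ _).trans (Eq.trans ?_ (Category.assoc _ _ _).symm)))
      exact congrArg (G.map ((restPre φ).map (adjR.unit.app P)) ≫ ·)
        (adjS.counit.naturality (T.map (H.map f))))

theorem preservesColimitsOfShape_pushforward (I : Type u) [Category.{u} I] :
    PreservesColimitsOfShape I (SheafOfModules.pushforward.{u} φ) := by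
  let adj := PresheafOfModules.sheafificationAdjunction (𝟙 R.obj)
  have : PreservesColimitsOfShape I (restPre φ) := by
    have : PreservesColimitsOfShape I
        (restPre φ ⋙ PresheafOfModules.toPresheaf S.obj) :=
      preservesColimitsOfShape_of_natIso (PresheafOfModules.pushforwardCompToPresheaf φ.hom).symm
    have : ReflectsColimitsOfShape I (PresheafOfModules.toPresheaf.{u} S.obj) :=
      reflectsColimitsOfShape_of_reflectsIsomorphisms
    exact preservesColimitsOfShape_of_reflects_of_preserves _ (PresheafOfModules.toPresheaf S.obj)
  have : (PresheafOfModules.sheafification (𝟙 S.obj)).IsLeftAdjoint :=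
    (PresheafOfModules.sheafificationAdjunction (𝟙 S.obj)).isLeftAdjoint
  have h₁ : PreservesColimitsOfShape I (restPre φ ⋙ PresheafOfModules.sheafification (𝟙 S.obj)) :=
    inferInstance
  have h₂ : PreservesColimitsOfShape I
      (PresheafOfModules.sheafification (𝟙 R.obj) ⋙ SheafOfModules.pushforward φ) :=
    preservesColimitsOfShape_of_natIso (restSheafifyIso φ)
  refine ⟨fun {D} => ?_⟩
  let L := PresheafOfModules.sheafification (𝟙 R.obj)
  let T := SheafOfModules.forget R ⋙ PresheafOfModules.restrictScalars (𝟙 R.obj)
  have : L.IsLeftAdjoint := adj.isLeftAdjoint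
  have : IsIso adj.counit := inferInstance
  let e : D ≅ (D ⋙ T) ⋙ L :=
    (Functor.rightUnitor D).symm ≪≫ Functor.isoWhiskerLeft D (asIso adj.counit).symm ≪≫
      (Functor.associator _ _ _).symm
  have : PreservesColimit ((D ⋙ T) ⋙ L) (SheafOfModules.pushforward φ) :=
    preservesColimit_of_preserves_colimit_cocone
      (isColimitOfPreserves L (colimit.isColimit (D ⋙ T)))
      (isColimitOfPreserves (L ⋙ SheafOfModules.pushforward φ) (colimit.isColimit (D ⋙ T)))
  exact preservesColimit_of_iso_diagram _ e.symm

theorem isLeftAdjoint_pushforward : (SheafOfModules.pushforward.{u} φ).IsLeftAdjoint := by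
  have : PreservesColimitsOfSize.{u, u} (SheafOfModules.pushforward.{u} φ) :=
    ⟨fun {I} _ => preservesColimitsOfShape_pushforward φ I⟩
  have : WellPowered.{u} (SheafOfModules.{u} R) := IsGrothendieckAbelian.wellPowered (SheafOfModules.{u} R)
  have : WellPowered.{u} (SheafOfModules.{u} R)ᵒᵖ := Abelian.wellPowered_opposite
  exact isLeftAdjoint_of_preservesColimits_of_isSeparating
    (P := ObjectProperty.singleton (separator (SheafOfModules.{u} R))) (isSeparator_separator _) _

end Groth.Agent.ModFlat.Cocont
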