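import Groth.Agent.ModFlat.LocalExact
import Groth.Agent.ModFlat.Basic
import Mathlib.LinearAlgebra.TensorProduct.Vanishing

/-!
# The equational criterion of flatness on a ringed site
-/

set_option autoImplicit false

universe u

open CategoryTheory CategoryTheory.Limits MonoidalCategory Opposite ModSite
open Groth.Agent.KFlat
open scoped TensorProduct

namespace Groth.Agent.ModFlat

/-- An element killed by `φ ⊗ F` in terms of finitely many relations of `F`. -/
theorem exists_relation_data {R A B F : Type u} [CommRing R] [AddCommGroup A] [Module R A]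
    [AddCommGroup B] [Module R B] [AddCommGroup F] [Module R F] (φ : A →ₗ[R] B) (z : A ⊗[R] F)
    (hz : φ.rTensor F z = 0) :
    ∃ (n m : ℕ) (x : Fin n → F) (a : Fin n → A) (r : Fin m → Fin n → R) (b : Fin m → B),
      z = ∑ i, a i ⊗ₜ x i ∧ (∀ l, ∑ i, r l i • x i = 0) ∧ ∀ i, φ (a i) = ∑ l, r l i • b l := by
  classical
  let π : (F →₀ R) →ₗ[R] F := Finsupp.linearCombination R id
  have hπ : Function.Surjective π := fun f => ⟨Finsupp.single f 1, by simp [π]⟩
  let eA := TensorProduct.finsuppScalarRight R R A F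
  let eB := TensorProduct.finsuppScalarRight R R B F
  have hA : ∀ w, π.lTensor A w = (eA w).sum fun x m => m ⊗ₜ[R] x := by
    intro w
    induction w using TensorProduct.induction_on with
    | zero => simp
    | tmul a g =>
      rw [LinearMap.lTensor_tmul, show eA (a ⊗ₜ g) = g.sum fun i r => Finsupp.single i (r • a) from
        TensorProduct.finsuppScalarRight_apply_tmul .., Finsupp.sum_sum_index
          (by simp) (by intros; exact TensorProduct.add_tmul _ _ _)]
      simp [π, Finsupp.linearCombination_apply, TensorProduct.tmul_sum, Finsupp.sum,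
        TensorProduct.smul_tmul]
      exact Finset.sum_congr rfl fun x _ =>
        (Finsupp.sum_single_index (h := fun i m => m ⊗ₜ[R] i) (by simp)).symm
    | add a b ha hb =>
      rw [map_add, map_add, ha, hb, Finsupp.sum_add_index' (by simp)
        (by intros; exact TensorProduct.add_tmul _ _ _)]
  have hnat : ∀ w x, eB (φ.rTensor _ w) x = φ (eA w x) := by
    intro w x
    induction w using TensorProduct.induction_on with
    | zero => simp
    | tmul a g => simp [eA, eB, TensorProduct.finsuppScalarRight_apply_tmul_apply]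
    | add a b ha hb => simp [ha, hb]
  obtain ⟨z', rfl⟩ := LinearMap.lTensor_surjective A hπ z
  have hker : φ.rTensor _ z' ∈ LinearMap.ker (π.lTensor B) := by
    rw [LinearMap.mem_ker, ← LinearMap.comp_apply, LinearMap.lTensor_comp_rTensor,
      ← LinearMap.rTensor_comp_lTensor, LinearMap.comp_apply, hz]
  rw [LinearMap.exact_iff.1 (lTensor_exact (M := ↥(LinearMap.ker π)) B (LinearMap.exact_subtype_ker_map π) hπ)] at hker
  obtain ⟨kn, hkn⟩ := hker
  obtain ⟨ma, rfl⟩ := TensorProduct.exists_finset (R := R) kn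
  let T : Finset F := (eA z').support ∪ ma.biUnion fun p => (p.2 : F →₀ R).support
  let en : Fin T.card → F := fun i => (T.equivFin.symm i : F)
  have hT : ∀ {M : Type u} [AddCommGroup M] (f : F → M), ∑ i, f (en i) = ∑ x ∈ T, f x := by
    intro M _ f
    rw [← Finset.sum_coe_sort T f]
    exact Fintype.sum_equiv T.equivFin.symm _ _ fun _ => rfl
  let ep : Fin ma.card → B × LinearMap.ker π := fun l => (ma.equivFin.symm l).1
  have hma : ∀ {M : Type u} [AddCommGroup M] (f : B × LinearMap.ker π → M),
      ∑ l, f (ep l) = ∑ p ∈ ma, f p := by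
    intro M _ f
    rw [← Finset.sum_coe_sort ma f]
    exact Fintype.sum_equiv ma.equivFin.symm _ _ fun _ => rfl
  refine ⟨_, _, en, fun i => eA z' (en i), fun l i => ((ep l).2 : F →₀ R) (en i),
    fun l => (ep l).1, ?_, ?_, ?_⟩
  · rw [hA, hT (fun x => eA z' x ⊗ₜ[R] x)]
    exact Finsupp.sum_of_support_subset _ Finset.subset_union_left _ (by simp)
  · intro l
    rw [hT (fun x => ((ep l).2 : F →₀ R) x • x)]
    have hl : ((ep l).2 : F →₀ R).support ⊆ T := (Finset.subset_biUnion_of_mem
      (fun p : B × LinearMap.ker π => (p.2 : F →₀ R).support) (ma.equivFin.symm l).2).trans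
        Finset.subset_union_right
    rw [← Finsupp.sum_of_support_subset _ hl (fun x r => r • x) (by simp)]
    exact ((ep l).2).2
  · intro i
    rw [← hnat, ← hkn, hma (fun p => (p.2 : F →₀ R) (en i) • p.1)]
    simp [eB, TensorProduct.finsuppScalarRight_apply_tmul_apply]

variable {C : Type u} [SmallCategory C] {J : GrothendieckTopology C} {O : Sheaf J CommRingCat.{u}}
  (F : Mod O)

/-- Restriction of sections, with values in sections. -/
noncomputable def rs {U V : C} (F : Mod O) (g : V ⟶ U) : sect F U →+ sect F V :=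
  AddMonoidHom.mk' (fun x => (F.val.map g.op).hom x) (map_add (F.val.map g.op).hom)

/-- Relations between sections are locally trivial, for finitely many relations at once. -/
def LocTriv : Prop :=
  ∀ (U : C) (n m : ℕ) (x : Fin n → sect F U) (r : Fin m → Fin n → O.obj.obj (op U)),
    (∀ l, ∑ i, r l i • x i = 0) →
    ∃ S ∈ J U, ∀ ⦃V : C⦄ (g : V ⟶ U), S g →
      ∃ (k : ℕ) (t : Fin k → sect F V) (a : Fin n → Fin k → O.obj.obj (op V)),
        (∀ i, rs F g (x i) = ∑ j, a i j • t j) ∧
        (∀ l j, ∑ i, a i j * (O.obj.map g.op).hom (r l i) = 0)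

/-- One relation at a time. -/
def LocTriv₁ : Prop :=
  ∀ (U : C) (n : ℕ) (f : Fin n → O.obj.obj (op U)) (s : Fin n → ModSite.sect F U),
    ∑ j, f j • s j = 0 →
    ∃ S ∈ J U, ∀ ⦃V : C⦄ (g : V ⟶ U), S g →
      ∃ (l : ℕ) (t : Fin l → ModSite.sect F V) (a : Fin n → Fin l → O.obj.obj (op V)),
        (∀ j, rs F g (s j) = ∑ k, a j k • t k) ∧
        (∀ k, ∑ j, a j k * (O.obj.map g.op).hom (f j) = 0)

variable {F}

theorem map_val_smul {U V : C} (g : V ⟶ U) (r : O.obj.obj (op U)) (x : sect F U) :
    rs F g (r • x) = (O.obj.map g.op).hom r • rs F g x :=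
  F.val.map_smul g.op r x

theorem map_val_comp {U V W : C} (h : W ⟶ V) (g : V ⟶ U) (x : sect F U) :
    rs F (h ≫ g) x = rs F h (rs F g x) :=
  PresheafOfModules.map_comp_apply F.val g.op h.op x

theorem map_ring_comp {U V W : C} (h : W ⟶ V) (g : V ⟶ U) (x : O.obj.obj (op U)) :
    (O.obj.map (h ≫ g).op).hom x = (O.obj.map h.op).hom ((O.obj.map g.op).hom x) := by
  rw [op_comp, Functor.map_comp]
  rfl

theorem locTriv_of_locTriv₁ (hF : LocTriv₁ F) : LocTriv F := by
  intro U n m
  induction m with
  | zero =>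
    intro x r _
    refine ⟨⊤, J.top_mem U, fun V g _ => ⟨n, fun i => rs F g (x i),
      fun i j => if i = j then 1 else 0, fun i => ?_, fun l => l.elim0⟩⟩
    simp
  | succ m ih =>
    intro x r hr
    obtain ⟨S, hS, hS'⟩ := ih x (fun l => r l.castSucc) (fun l => hr _)
    choose k t a ha₁ ha₂ using hS'
    have hrel : ∀ ⦃V : C⦄ (g : V ⟶ U) (hg : S g),
        ∑ j, (∑ i, a g hg i j * (O.obj.map g.op).hom (r (Fin.last m) i)) • t g hg j = 0 :=
      fun V g hg => by
        have h := congrArg (rs F g) (hr (Fin.last m))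
        simp only [map_sum, map_val_smul, ha₁ g hg, Finset.smul_sum, smul_smul, map_zero] at h
        rw [← h, Finset.sum_comm]
        simp [Finset.sum_smul, mul_comm]
    choose T hT hT' using fun ⦃V : C⦄ (g : V ⟶ U) (hg : S g) => hF V _ _ _ (hrel g hg)
    refine ⟨Sieve.bind S (fun V g hg => T g hg), J.bind_covering hS fun V g hg => hT g hg, ?_⟩
    rintro W _ ⟨V, h, g, hg, hh, rfl⟩
    obtain ⟨k', t', c, hc₁, hc₂⟩ := hT' g hg h hh
    refine ⟨k', t', fun i j' => ∑ j, (O.obj.map h.op).hom (a g hg i j) * c j j', fun i => ?_, ?_⟩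
    · rw [map_val_comp, ha₁ g hg i, map_sum]
      simp only [map_val_smul, hc₁, Finset.smul_sum, smul_smul, Finset.sum_smul]
      rw [Finset.sum_comm]
    · intro l j'
      simp only [Finset.sum_mul]
      rw [Finset.sum_comm]
      induction l using Fin.lastCases with
      | last =>
        refine (Finset.sum_congr rfl fun j _ => ?_).trans (hc₂ j')
        rw [map_sum, Finset.mul_sum]
        refine Finset.sum_congr rfl fun i _ => ?_
        rw [map_mul, map_ring_comp]
        ring
      | cast l =>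
        refine Finset.sum_eq_zero fun j _ => ?_
        have := congrArg (O.obj.map h.op).hom (ha₂ g hg l j)
        simp only [map_sum, map_mul, map_zero] at this
        calc _ = ∑ i, (O.obj.map h.op).hom (a g hg i j) *
              (O.obj.map h.op).hom ((O.obj.map g.op).hom (r l.castSucc i)) * c j j' := by
              refine Finset.sum_congr rfl fun i _ => ?_
              rw [map_ring_comp]
              ring
          _ = 0 := by rw [← Finset.sum_mul, this, zero_mul]

theorem tensorMono_of_locTriv (hF : LocTriv F) : TensorMono F := by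
  refine ⟨fun {A B} f hf => ?_⟩
  refine mono_shPre_map ((toPre O).map f ▷ (toPre O).obj F) ⟨fun {U} x y hxy => ?_⟩
  have hinj : ∀ V : Cᵒᵖ, Function.Injective ((toPre O).map f |>.app V) := fun V =>
    PresheafOfModules.injective_of_mono ((toPre O).map f) V
  let φU := (((toPre O).map f).app U).hom
  let P := (toPre O).obj A ⊗ (toPre O).obj F
  let T : Type u := (((toPre O).obj A).obj U : Type u) ⊗[O.obj.obj U] (((toPre O).obj F).obj U : Type u)
  let x' : T := x
  let y' : T := y
  have hz : LinearMap.rTensor ((toPre O).obj F |>.obj U) φU (x' - y') = 0 :=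
    (map_sub _ x' y').trans (sub_eq_zero.2 hxy)
  obtain ⟨n, m, xs, as, r, b, hz₁, hr, hb⟩ := exists_relation_data φU (x' - y') hz
  obtain ⟨S, hS, hS'⟩ := hF U.unop n m xs r hr
  refine J.superset_covering ?_ hS
  intro V g hg
  obtain ⟨k, t, c, hc₁, hc₂⟩ := hS' g hg
  let ρ := (((PresheafOfModules.toPresheaf _).obj P).map g.op).hom
  change ρ x = ρ y
  rw [← sub_eq_zero, ← map_sub]
  refine (congrArg ρ hz₁).trans ((map_sum ρ _ _).trans ?_)
  let a' : Fin n → ((toPre O).obj A).obj (op V) := fun i => ((toPre O).obj A).map g.op (as i)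
  have hzero : ∀ j, ∑ i, c i j • a' i = 0 := fun j => by
    refine hinj (op V) ?_
    rw [map_sum, map_zero]
    have h₁ : ∀ i, ((toPre O).map f).app (op V) (a' i) =
        ∑ l, (O.obj.map g.op).hom (r l i) • ((toPre O).obj B).map g.op (b l) := fun i => by
      rw [show ((toPre O).map f).app (op V) (a' i) = ((toPre O).obj B).map g.op (φU (as i)) from
        PresheafOfModules.naturality_apply ((toPre O).map f) g.op (as i), hb, map_sum]
      exact Finset.sum_congr rfl fun l _ => PresheafOfModules.map_smul _ g.op _ _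
    calc _ = ∑ i, c i j • ∑ l, (O.obj.map g.op).hom (r l i) • ((toPre O).obj B).map g.op (b l) :=
          Finset.sum_congr rfl fun i _ => (map_smul (((toPre O).map f).app (op V)).hom _ _).trans
            (congrArg _ (h₁ i))
      _ = ∑ l, (∑ i, c i j * (O.obj.map g.op).hom (r l i)) •
            ((toPre O).obj B).map g.op (b l) := by
          simp only [Finset.smul_sum, Finset.sum_smul, smul_smul]
          exact Finset.sum_comm
      _ = 0 := Finset.sum_eq_zero fun l _ => by rw [hc₂ l j, zero_smul]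
  have hρ : ∀ i, ρ (as i ⊗ₜ xs i) = ∑ j, (c i j • a' i) ⊗ₜ[O.obj.obj (op V)] t j := fun i => by
    refine (Eq.trans (show ρ (as i ⊗ₜ xs i) = a' i ⊗ₜ[O.obj.obj (op V)] rs F g (xs i) from rfl) ?_)
    rw [hc₁, TensorProduct.tmul_sum]
    simp [TensorProduct.smul_tmul]
  refine (Finset.sum_congr rfl fun i _ => hρ i).trans ?_
  refine Finset.sum_comm.trans ?_
  refine Finset.sum_eq_zero fun j _ => ?_
  refine (TensorProduct.sum_tmul _ _ _).symm.trans ?_
  rw [hzero j, TensorProduct.zero_tmul]
  rfl

section Converse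

variable (U : C) (n : ℕ)

/-- The presheaf of sets `V ↦ Hom(V, U) × Fin n`. -/
def idxPre : Cᵒᵖ ⥤ Type u where
  obj V := (V.unop ⟶ U) × Fin n
  map f := ↾fun p => (f.unop ≫ p.1, p.2)

variable {U n}

theorem freeObj_map_single (G : Cᵒᵖ ⥤ Type u) {V W : Cᵒᵖ} (h : V ⟶ W) (i : G.obj V)
    (r : O.obj.obj V) :
    ((PresheafOfModules.freeObj (R := O.obj ⋙ forget₂ _ RingCat) G).map h
        (Finsupp.single i r : G.obj V →₀ O.obj.obj V) : G.obj W →₀ O.obj.obj W) =
      Finsupp.single (G.map h i) ((O.obj.map h).hom r) := by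
  have h₁ : (Finsupp.single i r : G.obj V →₀ O.obj.obj V) = r • Finsupp.single i 1 := by simp
  rw [h₁]
  refine (PresheafOfModules.map_smul
    (PresheafOfModules.freeObj (R := O.obj ⋙ forget₂ _ RingCat) G) h r _).trans ?_
  refine (congrArg (fun w : G.obj W →₀ O.obj.obj W => (O.obj.map h).hom r • w)
    (ModuleCat.freeDesc_apply _ i)).trans ?_
  exact Finsupp.smul_single_one _ _

/-- The map `O_U^n ⟶ O_U` given by `f`. -/
noncomputable def rowMap (f : Fin n → O.obj.obj (op U)) :
    PresheafOfModules.freeObj (R := O.obj ⋙ forget₂ _ RingCat) (idxPre U n) ⟶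
      PresheafOfModules.freeObj (R := O.obj ⋙ forget₂ _ RingCat) (yoneda.obj U) :=
  PresheafOfModules.freeObjDesc
    { app := fun V => ↾fun p => (Finsupp.single (α := (yoneda.obj U).obj V) p.1
        ((O.obj.map p.1.op).hom (f p.2)) : (yoneda.obj U).obj V →₀ O.obj.obj V)
      naturality := fun V W h => by
        ext p
        refine Eq.trans ?_ (freeObj_map_single (yoneda.obj U) h p.1 _).symm
        change Finsupp.single (h.unop ≫ p.1) ((O.obj.map (h.unop ≫ p.1).op).hom (f p.2)) = _
        rw [map_ring_comp]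
        rfl }

/-- `rowMap` on sections. -/
noncomputable def rowApp (f : Fin n → O.obj.obj (op U)) (V : C) :
    ((V ⟶ U) × Fin n →₀ O.obj.obj (op V)) →ₗ[O.obj.obj (op V)] ((V ⟶ U) →₀ O.obj.obj (op V)) :=
  ((rowMap f).app (op V)).hom

theorem rowApp_single_one (f : Fin n → O.obj.obj (op U)) (V : C) (p : (V ⟶ U) × Fin n) :
    rowApp f V (Finsupp.single p 1) = Finsupp.single p.1 ((O.obj.map p.1.op).hom (f p.2)) :=
  ModuleCat.freeDesc_apply _ p

theorem rowMap_apply (f : Fin n → O.obj.obj (op U)) {V : C} (g : V ⟶ U)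
    (a : (V ⟶ U) × Fin n →₀ O.obj.obj (op V)) :
    rowApp f V a g = ∑ j, a (g, j) * (O.obj.map g.op).hom (f j) := by
  classical
  induction a using Finsupp.induction_linear with
  | zero => simp
  | add a b ha hb => simp [ha, hb, add_mul, Finset.sum_add_distrib]
  | single p c =>
    rw [show (Finsupp.single p c : (V ⟶ U) × Fin n →₀ O.obj.obj (op V)) = c • Finsupp.single p 1 by simp,
      map_smul, rowApp_single_one]
    obtain ⟨p₁, p₂⟩ := p
    by_cases hg : p₁ = g
    · subst hg
      simp [Finsupp.single_apply]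
    · simp [Finsupp.single_apply, hg]

theorem locTriv₁_of_tensorMono (hF : TensorMono F) : LocTriv₁ F := by
  classical
  intro U n f s hrel
  have := preservesFiniteLimits_of_tensorMono hF
  have : ((tensorBi O).flip.obj F).PreservesHomology := Functor.preservesHomologyOfExact _
  have : PreservesFiniteLimits (shPre O) :=
    inferInstanceAs (PreservesFiniteLimits (PresheafOfModules.sheafification (𝟙 (ringSh O).obj)))
  have : (shPre O).PreservesHomology := Functor.preservesHomologyOfExact _
  let φ := rowMap (O := O) f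
  let T : ShortComplex (preMod O) := ShortComplex.mk (kernel.ι φ) φ (kernel.condition φ)
  have hT : T.Exact := ShortComplex.exact_of_f_is_kernel T (kernelIsKernel φ)
  let Fp := (toPre O).obj F
  have hex : ((T.map (tensorRight Fp)).map (shPre O)).Exact := by
    have h₁ : (T.map (shPre O ⋙ (tensorBi O).flip.obj F)).Exact := hT.map _
    exact (ShortComplex.exact_iff_of_iso (T.mapNatIso (shPreCompTensorRight O F))).1 h₁
  let z : ((idxPre U n).obj (op U) →₀ O.obj.obj (op U)) ⊗[O.obj.obj (op U)] sect F U :=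
    ∑ j, Finsupp.single (𝟙 U, j) 1 ⊗ₜ s j
  have hz : (T.map (tensorRight Fp)).g.app (op U) z = 0 := by
    refine (map_sum ((φ ▷ Fp).app (op U)).hom _ _).trans ?_
    have h : ∀ j, (φ ▷ Fp).app (op U) (Finsupp.single (𝟙 U, j) (1 : O.obj.obj (op U)) ⊗ₜ s j :
        ((idxPre U n).obj (op U) →₀ O.obj.obj (op U)) ⊗[O.obj.obj (op U)] sect F U) =
        ((Finsupp.single (𝟙 U) (1 : O.obj.obj (op U))) ⊗ₜ (f j • s j) :
          ((U ⟶ U) →₀ O.obj.obj (op U)) ⊗[O.obj.obj (op U)] sect F U) := fun j => by
      rw [← TensorProduct.smul_tmul]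
      refine congrArg (fun w : (U ⟶ U) →₀ O.obj.obj (op U) => w ⊗ₜ[O.obj.obj (op U)] s j)
        ((rowApp_single_one f U (𝟙 U, j)).trans ?_)
      simp
    refine (Finset.sum_congr rfl fun j _ => h j).trans ?_
    refine (TensorProduct.tmul_sum _ _ _).symm.trans ?_
    rw [hrel, TensorProduct.tmul_zero]
    rfl
  obtain ⟨S, hS, hS'⟩ := exists_local_preimage hex z hz
  refine ⟨S, hS, fun V g hg => ?_⟩
  obtain ⟨w, hw⟩ := hS' g hg
  obtain ⟨ma, hma⟩ := TensorProduct.exists_finset (R := O.obj.obj (op V))
    (w : (kernel φ).obj (op V) ⊗[O.obj.obj (op V)] sect F V)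
  let a : ((kernel φ).obj (op V) × sect F V) → ((V ⟶ U) × Fin n →₀ O.obj.obj (op V)) :=
    fun p => (kernel.ι φ).app (op V) p.1
  refine ⟨ma.card, fun k => (ma.equivFin.symm k).1.2,
    fun j k => a (ma.equivFin.symm k).1 (g, j), fun j => ?_, fun k => ?_⟩
  · let proj : ((V ⟶ U) × Fin n →₀ O.obj.obj (op V)) ⊗[O.obj.obj (op V)] sect F V
        →ₗ[O.obj.obj (op V)] sect F V :=
      (TensorProduct.lid _ _).toLinearMap.comp ((Finsupp.lapply (g, j)).rTensor _)
    have hL : proj ((kernel.ι φ ▷ Fp).app (op V) w) =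
        ∑ k, a (ma.equivFin.symm k).1 (g, j) • (ma.equivFin.symm k).1.2 := by
      rw [Fintype.sum_equiv ma.equivFin.symm _ (fun p => a p.1 (g, j) • p.1.2) (fun _ => rfl),
        Finset.sum_coe_sort ma (fun p => a p (g, j) • p.2), hma]
      refine (congrArg proj (map_sum ((kernel.ι φ ▷ Fp).app (op V)).hom _ _)).trans ?_
      exact (map_sum proj _ _).trans (Finset.sum_congr rfl fun p _ => TensorProduct.lid_tmul _ _)
    refine Eq.trans ?_ hL
    refine Eq.trans ?_ (congrArg proj hw).symm
    refine Eq.trans ?_ (congrArg proj (map_sum (((PresheafOfModules.toPresheaf _).obj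
      (PresheafOfModules.freeObj (R := O.obj ⋙ forget₂ _ RingCat) (idxPre U n) ⊗ Fp)).map g.op).hom _ _)).symm
    refine Eq.trans ?_ (map_sum proj _ _).symm
    have h : ∀ i, proj (((PresheafOfModules.freeObj (R := O.obj ⋙ forget₂ _ RingCat) (idxPre U n) ⊗ Fp).map g.op)
        (Finsupp.single (𝟙 U, i) (1 : O.obj.obj (op U)) ⊗ₜ s i :
          ((idxPre U n).obj (op U) →₀ O.obj.obj (op U)) ⊗[O.obj.obj (op U)] sect F U)) =
        if i = j then rs F g (s i) else 0 := fun i => by
      refine (TensorProduct.lid_tmul _ _).trans ?_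
      have h₁ : (PresheafOfModules.freeObj (R := O.obj ⋙ forget₂ _ RingCat) (idxPre U n)).map g.op
          (Finsupp.single (𝟙 U, i) (1 : O.obj.obj (op U))) =
          (Finsupp.single (g, i) 1 : (V ⟶ U) × Fin n →₀ O.obj.obj (op V)) := by
        refine (ModuleCat.freeDesc_apply _ _).trans ?_
        change Finsupp.single (g ≫ 𝟙 U, i) (1 : O.obj.obj (op V)) = _
        rw [Category.comp_id]
      refine (congrArg (fun v : (V ⟶ U) × Fin n →₀ O.obj.obj (op V) =>
        v (g, j) • rs F g (s i)) h₁).trans ?_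
      by_cases hij : i = j
      · simp [hij]
      · simp [Finsupp.single_apply, hij]
    refine Eq.trans ?_ (Finset.sum_congr rfl fun i _ => h i).symm
    simp
  · have h : (rowMap f).app (op V) (a (ma.equivFin.symm k).1) = 0 := by
      change ((kernel.ι φ ≫ φ).app (op V)) _ = 0
      rw [kernel.condition]
      rfl
    refine (rowMap_apply f g _).symm.trans ?_
    exact congrArg (fun q : (V ⟶ U) →₀ O.obj.obj (op V) => q g) h

end Converse

theorem locTriv₁_iff : LocTriv₁ F ↔ ModSite.IsFlat F :=
  ⟨fun h => isFlat_of_tensorMono (tensorMono_of_locTriv (locTriv_of_locTriv₁ h)),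
    fun h => locTriv₁_of_tensorMono (tensorMono_of_isFlat h)⟩

theorem locTriv_of_isFlat (h : ModSite.IsFlat F) : LocTriv F :=
  locTriv_of_locTriv₁ (locTriv₁_iff.2 h)

end Groth.Agent.ModFlat
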