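import Groth.Agent.ModFlat.Relations
import Groth.Prelude.Def_ModSite2
import Mathlib.CategoryTheory.Sites.Point.Conservative
import Mathlib.RingTheory.Flat.EquationalCriterion

/-!
# Flatness at points of a site
-/

set_option autoImplicit false

universe u

open CategoryTheory CategoryTheory.Limits Opposite ModSite

namespace Groth.Agent.ModFlat

variable {C : Type u} [SmallCategory C] {J : GrothendieckTopology C} {O : Sheaf J CommRingCat.{u}}
  (p : GrothendieckTopology.Point.{u} J) {F : Mod O}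

/-- A neighbourhood of a point refining a given one. -/
def Refines {U : C} (x : p.fiber.obj U) {V : C} (g : V ⟶ U) (v : p.fiber.obj V) : Prop :=
  p.fiber.map g v = x

variable {p}

theorem Refines.comp {U V W : C} {x : p.fiber.obj U} {g : V ⟶ U} {v : p.fiber.obj V} {h : W ⟶ V}
    {w : p.fiber.obj W} (h₁ : Refines p x g v) (h₂ : Refines p v h w) : Refines p x (h ≫ g) w := by
  unfold Refines at *
  rw [← h₁, ← h₂]
  simp

theorem exists_common {U V W : C} {x : p.fiber.obj U} {g : V ⟶ U} {v : p.fiber.obj V} {h : W ⟶ U}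
    {w : p.fiber.obj W} (h₁ : Refines p x g v) (h₂ : Refines p x h w) :
    ∃ (Z : C) (a : Z ⟶ V) (b : Z ⟶ W) (z : p.fiber.obj Z),
      Refines p v a z ∧ Refines p w b z ∧ a ≫ g = b ≫ h := by
  obtain ⟨k, a, b, hab⟩ := IsCofiltered.cospan
    (CategoryOfElements.homMk (Functor.elementsMk p.fiber V v) (Functor.elementsMk p.fiber U x) g h₁)
    (CategoryOfElements.homMk (Functor.elementsMk p.fiber W w) (Functor.elementsMk p.fiber U x) h h₂)
  exact ⟨k.1, a.1, b.1, k.2, a.2, b.2, congrArg Subtype.val hab⟩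

/-- Finitely many conditions, each holding near the point and stable by restriction, hold together. -/
theorem exists_forall {U : C} (x : p.fiber.obj U) {n : ℕ}
    (P : Fin n → ∀ ⦃V : C⦄, (V ⟶ U) → p.fiber.obj V → Prop)
    (hP : ∀ i ⦃V W : C⦄ (g : V ⟶ U) (v : p.fiber.obj V) (h : W ⟶ V) (w : p.fiber.obj W),
      Refines p v h w → P i g v → P i (h ≫ g) w)
    (h : ∀ i, ∃ (V : C) (g : V ⟶ U) (v : p.fiber.obj V), Refines p x g v ∧ P i g v) :
    ∃ (V : C) (g : V ⟶ U) (v : p.fiber.obj V), Refines p x g v ∧ ∀ i, P i g v := by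
  induction n with
  | zero => exact ⟨U, 𝟙 U, x, by simp [Refines], fun i => i.elim0⟩
  | succ n ih =>
    obtain ⟨V, g, v, hv, hV⟩ := ih (fun i => P i.castSucc) (fun i => hP _) (fun i => h _)
    obtain ⟨W, k, w, hw, hW⟩ := h (Fin.last n)
    obtain ⟨Z, a, b, z, ha, hb, hab⟩ := exists_common hv hw
    refine ⟨Z, a ≫ g, z, hv.comp ha, fun i => ?_⟩
    induction i using Fin.lastCases with
    | last =>
      rw [hab]
      exact hP _ k w b z hb hW
    | cast i => exact hP _ g v a z ha (hV i)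

theorem germ_rs {U V : C} {x : p.fiber.obj U} {g : V ⟶ U} {v : p.fiber.obj V} (h : Refines p x g v)
    (s : sect F U) : germ p F V v (rs F g s) = germ p F U x s :=
  (p.toPresheafFiber_w_apply g v (toAb F).obj s).trans
    (congrArg (fun t => (p.toPresheafFiber U t (toAb F).obj).hom s) h)

theorem germRing_res {U V : C} {x : p.fiber.obj U} {g : V ⟶ U} {v : p.fiber.obj V} (h : Refines p x g v)
    (r : O.obj.obj (op U)) : germRing p V v ((O.obj.map g.op).hom r) = germRing p U x r :=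
  (p.toPresheafFiber_w_apply g v O.obj r).trans
    (congrArg (fun t => (p.toPresheafFiber U t O.obj).hom r) h)

theorem exists_germ {U : C} (x : p.fiber.obj U) (a : stalkAb p F) :
    ∃ (V : C) (g : V ⟶ U) (v : p.fiber.obj V), Refines p x g v ∧ ∃ s, germ p F V v s = a := by
  obtain ⟨W, w, s, rfl⟩ := p.toPresheafFiber_jointly_surjective (P := (toAb F).obj) a
  let e₁ := Functor.elementsMk p.fiber U x
  let e₂ := Functor.elementsMk p.fiber W w
  exact ⟨(IsCofiltered.min e₁ e₂).1, (IsCofiltered.minToLeft e₁ e₂).1, (IsCofiltered.min e₁ e₂).2,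
    (IsCofiltered.minToLeft e₁ e₂).2, _, germ_rs (IsCofiltered.minToRight e₁ e₂).2 s⟩

theorem exists_germRing {U : C} (x : p.fiber.obj U) (a : stalkRing p O) :
    ∃ (V : C) (g : V ⟶ U) (v : p.fiber.obj V), Refines p x g v ∧ ∃ r, germRing p V v r = a := by
  obtain ⟨W, w, s, rfl⟩ := p.toPresheafFiber_jointly_surjective (P := O.obj) a
  let e₁ := Functor.elementsMk p.fiber U x
  let e₂ := Functor.elementsMk p.fiber W w
  exact ⟨(IsCofiltered.min e₁ e₂).1, (IsCofiltered.minToLeft e₁ e₂).1, (IsCofiltered.min e₁ e₂).2,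
    (IsCofiltered.minToLeft e₁ e₂).2, _, germRing_res (IsCofiltered.minToRight e₁ e₂).2 s⟩

theorem exists_eq_of_germ_eq {U : C} (x : p.fiber.obj U) {s t : sect F U}
    (h : germ p F U x s = germ p F U x t) :
    ∃ (V : C) (g : V ⟶ U) (v : p.fiber.obj V), Refines p x g v ∧ rs F g s = rs F g t :=
  by
  let s' : ToType ((toAb F).obj.obj (op U)) := s
  let t' : ToType ((toAb F).obj.obj (op U)) := t
  exact (p.toPresheafFiber_eq_iff' (P := (toAb F).obj) U x s' t').1 h

theorem exists_eq_of_germRing_eq {U : C} (x : p.fiber.obj U) {s t : O.obj.obj (op U)}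
    (h : germRing p U x s = germRing p U x t) :
    ∃ (V : C) (g : V ⟶ U) (v : p.fiber.obj V), Refines p x g v ∧
      (O.obj.map g.op).hom s = (O.obj.map g.op).hom t :=
  (p.toPresheafFiber_eq_iff' U x s t).1 h

theorem germ_sum {U : C} (x : p.fiber.obj U) {n : ℕ} (r : Fin n → O.obj.obj (op U))
    (s : Fin n → sect F U) :
    germ p F U x (∑ i, r i • s i) = ∑ i, germRing p U x (r i) • germ p F U x (s i) :=
  (map_sum (p.toPresheafFiber U x (toAb F).obj).hom _ _).trans
    (Finset.sum_congr rfl fun i _ => germ_smul p F U x (r i) (s i))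

/-- Stalks of flat modules are flat. -/
theorem flat_stalk (hF : LocTriv₁ F) : Module.Flat (stalkRing p O) (stalkMod p F) := by
  rw [Module.Flat.iff_forall_isTrivialRelation]
  intro l f m hfm
  -- a neighbourhood on which all the data is defined
  obtain ⟨⟨W₀, w₀⟩⟩ := (IsCofiltered.nonempty (C := p.fiber.Elements))
  obtain ⟨U, g₀, x, -, hU⟩ := exists_forall w₀
    (fun i ⦃V⦄ (_ : V ⟶ W₀) v => (∃ r, germRing p V v r = f i) ∧ ∃ s, germ p F V v s = m i)
    (fun i V W g v h w hw ⟨⟨r, hr⟩, ⟨s, hs⟩⟩ =>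
      ⟨⟨_, (germRing_res hw r).trans hr⟩, ⟨_, (germ_rs hw s).trans hs⟩⟩)
    (fun i => by
      obtain ⟨V, g, v, hv, r, hr⟩ := exists_germRing w₀ (f i)
      obtain ⟨W, h, w, hw, s, hs⟩ := exists_germ v (m i)
      exact ⟨W, h ≫ g, w, hv.comp hw, ⟨_, (germRing_res hw r).trans hr⟩, s, hs⟩)
  choose hr hs using hU
  choose r hr using hr
  choose s hs using hs
  have hzero : germ p F U x (∑ i, r i • s i) = germ p F U x 0 := by
    rw [germ_sum]
    refine Eq.trans ?_ (map_zero (p.toPresheafFiber U x (toAb F).obj).hom).symm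
    simp only [hr, hs]
    exact hfm
  obtain ⟨V, g, v, hv, hV⟩ := exists_eq_of_germ_eq x hzero
  rw [map_sum, map_zero] at hV
  simp only [map_val_smul] at hV
  obtain ⟨S, hS, hS'⟩ := hF V l _ _ hV
  obtain ⟨W, h, hh, w, hw⟩ := p.jointly_surjective S hS v
  obtain ⟨k, t, a, ha₁, ha₂⟩ := hS' h hh
  refine ⟨k, fun i j => germRing p W w (a i j), fun j => germ p F W w (t j), fun i => ?_, fun j => ?_⟩
  · rw [← hs i, ← germ_rs hv (s i), ← germ_rs hw (rs F g (s i)), show rs F h (rs F g (s i)) = ∑ j, a i j • t j from ha₁ i,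
      germ_sum]
  · have := congrArg (germRing p W w) (ha₂ j)
    simp only [map_sum, map_zero, map_mul] at this
    refine Eq.trans ?_ ((map_sum (p.toPresheafFiber W w O.obj).hom _ _).symm.trans
      ((congrArg (germRing p W w) (ha₂ j)).trans (map_zero (p.toPresheafFiber W w O.obj).hom)))
    refine Finset.sum_congr rfl fun i _ => ?_
    refine Eq.trans ?_ (map_mul (p.toPresheafFiber W w O.obj).hom _ _).symm
    rw [← hr i, ← germRing_res hv (r i), ← germRing_res hw, mul_comm]
    rfl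

/-- Flatness can be checked on a conservative family of points. -/
theorem locTriv₁_of_stalks (P : ObjectProperty (GrothendieckTopology.Point.{u} J))
    (hP : P.IsConservativeFamilyOfPoints)
    (h : ∀ p, P p → Module.Flat (stalkRing p O) (stalkMod p F)) : LocTriv₁ F := by
  intro U n f s hrel
  let Good : ∀ ⦃V : C⦄, (V ⟶ U) → Prop := fun V g => ∃ (l : ℕ) (t : Fin l → sect F V)
    (a : Fin n → Fin l → O.obj.obj (op V)), (∀ j, rs F g (s j) = ∑ k, a j k • t k) ∧
      ∀ k, ∑ j, a j k * (O.obj.map g.op).hom (f j) = 0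
  let ι : Type u := Σ V : C, { g : V ⟶ U // Good g }
  refine ⟨Sieve.ofArrows (fun i : ι => i.1) (fun i => i.2.1), ?_, ?_⟩
  · rw [hP.jointly_reflect_ofArrows_mem]
    intro Φ x
    have hflat := h Φ.obj Φ.property
    have hrel' : ∑ j, germRing Φ.obj U x (f j) • germ Φ.obj F U x (s j) = 0 := by
      rw [← germ_sum, hrel]
      exact map_zero (Φ.obj.toPresheafFiber U x (toAb F).obj).hom
    obtain ⟨k, a, y, hy₁, hy₂⟩ := Module.Flat.iff_forall_isTrivialRelation.1 hflat hrel'
    -- lift the coefficients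
    obtain ⟨V, g, v, hv, hy⟩ := exists_forall x
      (fun j ⦃V⦄ (_ : V ⟶ U) v => ∃ t, germ Φ.obj F V v t = y j)
      (fun j V W g v h w hw ⟨t, ht⟩ => ⟨_, (germ_rs hw t).trans ht⟩)
      (fun j => exists_germ x (y j))
    choose t ht using hy
    obtain ⟨V', g', v', hv', ha⟩ := exists_forall v
      (fun i ⦃W⦄ (_ : W ⟶ V) w => ∀ j, ∃ c, germRing Φ.obj W w c = a i j)
      (fun i V W g v h w hw hc j => let ⟨c, hc⟩ := hc j; ⟨_, (germRing_res hw c).trans hc⟩)
      (fun i => exists_forall v (fun j ⦃W⦄ (_ : W ⟶ V) w => ∃ c, germRing Φ.obj W w c = a i j)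
        (fun j V W g v h w hw ⟨c, hc⟩ => ⟨_, (germRing_res hw c).trans hc⟩)
        (fun j => exists_germRing v (a i j)))
    choose c hc using ha
    have e₁ : ∀ i, germ Φ.obj F V' v' (rs F (g' ≫ g) (s i)) =
        germ Φ.obj F V' v' (∑ j, c i j • rs F g' (t j)) := fun i => by
      rw [germ_rs (hv.comp hv'), germ_sum]
      refine (hy₁ i).trans ?_
      refine Finset.sum_congr rfl fun j _ => ?_
      rw [hc, germ_rs hv', ht]
    obtain ⟨V₁, g₁, v₁, hv₁, h₁⟩ := exists_forall v'
      (fun i ⦃W⦄ (k : W ⟶ V') _ => rs F k (rs F (g' ≫ g) (s i)) = rs F k (∑ j, c i j • rs F g' (t j)))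
      (fun i V W g v h w _ he => by rw [map_val_comp, he, ← map_val_comp])
      (fun i => exists_eq_of_germ_eq v' (e₁ i))
    have e₂ : ∀ j, germRing Φ.obj V' v' (∑ i, c i j * (O.obj.map (g' ≫ g).op).hom (f i)) =
        germRing Φ.obj V' v' 0 := fun j => by
      refine (map_sum (Φ.obj.toPresheafFiber V' v' O.obj).hom _ _).trans
        (Eq.trans ?_ (map_zero (Φ.obj.toPresheafFiber V' v' O.obj).hom).symm)
      refine Eq.trans (Finset.sum_congr rfl fun i _ => ?_) (hy₂ j)
      refine (map_mul (Φ.obj.toPresheafFiber V' v' O.obj).hom _ _).trans ?_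
      change _ = germRing Φ.obj U x (f i) * a i j
      rw [← hc i j, ← germRing_res (hv.comp hv') (f i)]
      exact mul_comm _ _
    obtain ⟨V₂, g₂, v₂, hv₂, h₂⟩ := exists_forall v₁
      (fun j ⦃W⦄ (k : W ⟶ V₁) _ => (O.obj.map (k ≫ g₁).op).hom
        (∑ i, c i j * (O.obj.map (g' ≫ g).op).hom (f i)) = 0)
      (fun j V W g v h w _ he => by rw [Category.assoc, map_ring_comp, he, map_zero])
      (fun j => by
        obtain ⟨W, k, w, hw, he⟩ := exists_eq_of_germRing_eq v' (e₂ j)
        obtain ⟨Z, a₁, b₁, z, ha₁, hb₁, hab⟩ := exists_common hv₁ hw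
        refine ⟨Z, a₁, z, ha₁, ?_⟩
        rw [hab, map_ring_comp, he, map_zero, map_zero])
    refine ⟨⟨V₂, ((g₂ ≫ g₁) ≫ g' ≫ g), k, fun j => rs F (g₂ ≫ g₁) (rs F g' (t j)),
      fun i j => (O.obj.map (g₂ ≫ g₁).op).hom (c i j), fun i => ?_, fun j => ?_⟩, v₂,
      (hv.comp hv').comp (hv₁.comp hv₂)⟩
    · rw [map_val_comp (g₂ ≫ g₁), map_val_comp g₂, h₁ i, ← map_val_comp, map_sum]
      simp only [map_val_smul]
    · have := h₂ j
      simp only [map_sum, map_mul] at this
      rw [← this]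
      exact Finset.sum_congr rfl fun i _ => by rw [map_ring_comp (g₂ ≫ g₁)]
  · rintro W _ ⟨V, h, _, ⟨⟨⟨V, g, l, t, a, ha₁, ha₂⟩⟩, rfl⟩⟩
    refine ⟨l, fun k => rs F h (t k), fun j k => (O.obj.map h.op).hom (a j k), fun j => ?_, fun k => ?_⟩
    · rw [map_val_comp, ha₁, map_sum]
      simp only [map_val_smul]
    · have := congrArg (O.obj.map h.op).hom (ha₂ k)
      simp only [map_sum, map_mul, map_zero] at this
      rw [← this]
      exact Finset.sum_congr rfl fun j _ => by rw [map_ring_comp]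

theorem isFlat_iff_stalks (P : ObjectProperty (GrothendieckTopology.Point.{u} J))
    (hP : P.IsConservativeFamilyOfPoints) :
    ModSite.IsFlat F ↔ ∀ p, P p → Module.Flat (stalkRing p O) (stalkMod p F) :=
  ⟨fun h _ _ => flat_stalk (locTriv₁_iff.2 h), fun h => locTriv₁_iff.1 (locTriv₁_of_stalks P hP h)⟩

end Groth.Agent.ModFlat
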