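import Groth.Agent.ModFlat.CplxRes
import Groth.Agent.ModFlat.Free
import Groth.Agent.KFlat.HomologyColim
import Groth.Agent.ModShf.GrothAb
import Mathlib.Algebra.Homology.Embedding.HomEquiv
import Mathlib.Algebra.Homology.Embedding.TruncLEHomology
import Mathlib.CategoryTheory.Functor.OfSequence

/-!
# Resolution systems by sums of `j_{U!} O_U`
-/

set_option autoImplicit false

universe v u

open CategoryTheory CategoryTheory.Limits

namespace Groth.Agent.ModFlat

section Gen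

variable {A : Type u} [Category.{v} A] [Abelian A] {ι ι' : Type} {c : ComplexShape ι}
  {c' : ComplexShape ι'} (e : c.Embedding c') [e.IsRelIff]

/-- A strictly supported complex maps to its stupid truncation. -/
noncomputable def toTrunc (K : HomologicalComplex A c') [K.IsStrictlySupported e] :
    K ⟶ (K.restriction e).extend e :=
  e.liftExtend (𝟙 _) (fun j hj i' hi' =>
    (K.isZero_X_of_isStrictlySupported e i' (fun i => hj.notMem hi' i)).eq_of_src _ _)

instance isIso_toTrunc (K : HomologicalComplex A c') [K.IsStrictlySupported e] :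
    IsIso (toTrunc e K) := by
  have : ∀ i', IsIso ((toTrunc e K).f i') := fun i' => by
    by_cases hi : ∃ i, e.f i = i'
    · obtain ⟨i, hi⟩ := hi
      exact (e.isIso_liftExtend_f_iff _ _ hi).2 (inferInstanceAs (IsIso (𝟙 _)))
    · exact isIso_of_source_target_iso_zero _
        (IsZero.isoZero (K.isZero_X_of_isStrictlySupported e i' (fun i h => hi ⟨i, h⟩)))
        (IsZero.isoZero (HomologicalComplex.isZero_extend_X _ _ _ (fun i h => hi ⟨i, h⟩)))
  exact HomologicalComplex.Hom.isIso_of_components _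

theorem toTrunc_naturality {K L : HomologicalComplex A c'} [K.IsStrictlySupported e]
    [L.IsStrictlySupported e] (φ : K ⟶ L) :
    φ ≫ toTrunc e L = toTrunc e K ≫
      HomologicalComplex.extendMap (HomologicalComplex.restrictionMap φ e) e := by
  refine (e.homEquiv K (L.restriction e)).injective (Subtype.ext ?_)
  change e.homRestrict _ = e.homRestrict _
  rw [e.homRestrict_precomp, e.homRestrict_comp_extendMap, toTrunc, toTrunc,
    e.homRestrict_liftExtend, e.homRestrict_liftExtend]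
  simp

theorem exists_factor_of_isTruncLE {A : Type u} [Category.{v} A] [Abelian A] (P : A → A)
    (p : ∀ X, P X ⟶ X) [∀ X, Epi (p X)] (Good : A → Prop) (hP : ∀ X, Good (P X))
    (hiso : ∀ {X Y : A}, (X ≅ Y) → Good X → Good Y)
    (hbi : ∀ {X Y : A}, Good X → Good Y → Good (X ⊞ Y)) (hz : ∀ {X : A}, IsZero X → Good X)
    (b : ℤ) (K H : CochainComplex A ℤ) [K.IsStrictlyLE b] [H.IsStrictlyLE b] (φ : K ⟶ H)
    (hK : ∀ i, Good (K.X i)) :
    ∃ (M : CochainComplex A ℤ) (i : K ⟶ M) (q : M ⟶ H), i ≫ q = φ ∧ M.IsStrictlyLE b ∧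
      QuasiIso q ∧ (∀ j, Epi (q.f j)) ∧ (∀ j, Good (M.X j)) ∧
      ∀ j, ∃ r : M.X j ⟶ K.X j, i.f j ≫ r = 𝟙 _ ∧ Good (cokernel (i.f j)) := by
  let e := ComplexShape.embeddingUpIntLE b
  let φ' := HomologicalComplex.restrictionMap φ e
  let L := CplxRes.cx P p φ'
  have hq : QuasiIso (CplxRes.π P p φ') := CplxRes.quasiIso_π P p φ'
  refine ⟨L.extend e, toTrunc e K ≫ HomologicalComplex.extendMap (CplxRes.ι P p φ') e,
    HomologicalComplex.extendMap (CplxRes.π P p φ') e ≫ inv (toTrunc e H), ?_, inferInstance,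
    inferInstance, fun j => ?_, ?_⟩
  · rw [Category.assoc, ← HomologicalComplex.extendMap_comp_assoc, CplxRes.ι_π,
      ← Category.assoc, IsIso.comp_inv_eq]
    exact (toTrunc_naturality e φ).symm
  · have : Epi ((HomologicalComplex.extendMap (CplxRes.π P p φ') e).f j) := by
      by_cases hj : ∃ m, e.f m = j
      · obtain ⟨m, hm⟩ := hj
        rw [HomologicalComplex.extendMap_f _ e hm]
        have := CplxRes.epi_π_f P p φ' m
        infer_instance
      · exact ⟨fun g h _ => ((H.isZero_X_of_isStrictlySupported e j (fun m hm => hj ⟨m, hm⟩)).of_iso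
          ((HomologicalComplex.Hom.isoApp (asIso (toTrunc e H)) j).symm)).eq_of_src _ _⟩
    rw [HomologicalComplex.comp_f]
    infer_instance
  · have key : ∀ j, ∃ (F : A) (t : K.X j ⊞ F ≅ (L.extend e).X j), Good F ∧
        biprod.inl ≫ t.hom =
          (toTrunc e K ≫ HomologicalComplex.extendMap (CplxRes.ι P p φ') e).f j := fun j => by
      by_cases hj : ∃ m, e.f m = j
      · obtain ⟨m, hm⟩ := hj
        obtain ⟨Y, ⟨f⟩⟩ := (CplxRes.stage P p φ' m).free
        refine ⟨_, biprod.mapIso (K.restrictionXIso e hm).symm (Iso.refl _) ≪≫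
          (CplxRes.stage P p φ' m).split ≪≫ (L.extendXIso e hm).symm, hiso f.symm (hP Y), ?_⟩
        rw [HomologicalComplex.comp_f, HomologicalComplex.extendMap_f _ e hm, toTrunc,
          e.liftExtend_f _ _ hm]
        simp [CplxRes.ι]
        rfl
      · have hKj := K.isZero_X_of_isStrictlySupported e j (fun m hm => hj ⟨m, hm⟩)
        refine ⟨K.X j, (IsZero.iso ?_ (L.isZero_extend_X e j (fun m hm => hj ⟨m, hm⟩))), hz hKj,
          hKj.eq_of_src _ _⟩
        exact (IsZero.iff_id_eq_zero _).2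
          (biprod.hom_ext' _ _ (hKj.eq_of_src _ _) (hKj.eq_of_src _ _))
    refine ⟨fun j => ?_, fun j => ?_⟩
    · obtain ⟨F, t, hF, -⟩ := key j
      exact hiso t (hbi (hK j) hF)
    · obtain ⟨F, t, hF, ht⟩ := key j
      refine ⟨t.inv ≫ biprod.fst, by simp [← ht], hiso ?_ hF⟩
      exact cokernelBiprodInlIso.symm ≪≫
        cokernel.mapIso _ _ (Iso.refl _) t (by simpa using ht)

end Gen

section FreeSum

open ModSite

variable {C : Type u} [SmallCategory C] {J : GrothendieckTopology C} {O : Sheaf J CommRingCat.{u}}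

/-- Being a direct sum of modules `j_{U!} O_U`. -/
def IsFreeSum (X : Mod O) : Prop :=
  ∃ (ι : Type u) (U : ι → C), Nonempty (X ≅ ∐ fun j => freeOn O (U j))

theorem IsFreeSum.of_iso {X Y : Mod O} (e : X ≅ Y) (h : IsFreeSum X) : IsFreeSum Y :=
  let ⟨ι, U, ⟨f⟩⟩ := h; ⟨ι, U, ⟨e.symm ≪≫ f⟩⟩

theorem isFreeSum_of_isZero {X : Mod O} (h : IsZero X) : IsFreeSum X :=
  ⟨PEmpty, fun j => j.elim, ⟨h.iso ((IsZero.iff_id_eq_zero _).2
    (Sigma.hom_ext _ _ fun j => j.elim))⟩⟩

theorem IsFreeSum.biprod {X Y : Mod O} (hX : IsFreeSum X) (hY : IsFreeSum Y) :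
    IsFreeSum (X ⊞ Y) := by
  obtain ⟨ι₁, U, ⟨e₁⟩⟩ := hX
  obtain ⟨ι₂, V, ⟨e₂⟩⟩ := hY
  let W : ι₁ ⊕ ι₂ → C := Sum.elim U V
  let T : ι₁ ⊕ ι₂ → Mod O := fun j => freeOn O (W j)
  exact ⟨_, W, ⟨{
    hom := biprod.desc (e₁.hom ≫ Sigma.desc (fun j => Sigma.ι T (Sum.inl j)))
      (e₂.hom ≫ Sigma.desc (fun j => Sigma.ι T (Sum.inr j)))
    inv := Sigma.desc (fun j => match j with
      | Sum.inl j => Sigma.ι (fun j => freeOn O (U j)) j ≫ e₁.inv ≫ biprod.inl
      | Sum.inr j => Sigma.ι (fun j => freeOn O (V j)) j ≫ e₂.inv ≫ biprod.inr)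
    hom_inv_id := by
      refine biprod.hom_ext' _ _ ?_ ?_
      · rw [← cancel_epi e₁.inv]
        refine Sigma.hom_ext _ _ fun j => ?_
        simp [T]
        exact Sigma.ι_desc _ _
      · rw [← cancel_epi e₂.inv]
        refine Sigma.hom_ext _ _ fun j => ?_
        simp [T]
        exact Sigma.ι_desc _ _
    inv_hom_id := by
      refine Sigma.hom_ext _ _ fun j => ?_
      cases j <;> simp [T] <;> exact Sigma.ι_desc _ _ }⟩⟩

theorem isFreeSum_freeCover (X : Mod O) : IsFreeSum (KFlat.freeCover O X) :=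
  ⟨_, fun p => p.1, ⟨Sigma.mapIso fun p => (freeOnIsoFreeU O p.1).symm⟩⟩

/-- The inclusion of consecutive truncations. -/
noncomputable def truncStep (G : CochainComplex (Mod O) ℤ) (a b : ℤ) (h : a ≤ b) :
    G.truncLE a ⟶ G.truncLE b :=
  haveI := (G.truncLE a).isStrictlyLE_of_le a b h
  inv ((G.truncLE a).ιTruncLE b) ≫ CochainComplex.truncLEMap (G.ιTruncLE a) b

theorem truncStep_ι (G : CochainComplex (Mod O) ℤ) (a b : ℤ) (h : a ≤ b) :
    truncStep G a b h ≫ G.ιTruncLE b = G.ιTruncLE a := by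
  haveI := (G.truncLE a).isStrictlyLE_of_le a b h
  rw [truncStep, Category.assoc, IsIso.inv_comp_eq]
  exact CochainComplex.ιTruncLE_naturality _ _

variable (G : CochainComplex (Mod O) ℤ)

/-- One member of the system. -/
structure Lvl (b : ℤ) where
  /-- the complex -/
  K : CochainComplex (Mod O) ℤ
  /-- the map -/
  π : K ⟶ G.truncLE b
  le : K.IsStrictlyLE b
  qis : QuasiIso π
  epi : ∀ i, Epi (π.f i)
  free : ∀ i, IsFreeSum (K.X i)

theorem exists_lvl (K : CochainComplex (Mod O) ℤ) (b : ℤ) [K.IsStrictlyLE b]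
    (hK : ∀ i, IsFreeSum (K.X i)) (φ : K ⟶ G.truncLE b) :
    ∃ (M : Lvl G b) (i : K ⟶ M.K), i ≫ M.π = φ ∧
      ∀ j, ∃ r : M.K.X j ⟶ K.X j, i.f j ≫ r = 𝟙 _ ∧ IsFreeSum (cokernel (i.f j)) := by
  obtain ⟨M, i, q, h₁, h₂, h₃, h₄, h₅, h₆⟩ := exists_factor_of_isTruncLE (KFlat.freeCover O)
    (KFlat.freeCoverπ O) IsFreeSum isFreeSum_freeCover IsFreeSum.of_iso IsFreeSum.biprod
    isFreeSum_of_isZero b K (G.truncLE b) φ hK
  exact ⟨⟨M, q, h₂, h₃, h₄, h₅⟩, i, h₁, h₆⟩

theorem exists_start (b : ℤ) : Nonempty (Lvl G b) := by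
  have hz : IsZero (HomologicalComplex.zero : CochainComplex (Mod O) ℤ) :=
    HomologicalComplex.isZero_zero
  have hzj : ∀ i, IsZero ((HomologicalComplex.zero : CochainComplex (Mod O) ℤ).X i) := fun i =>
    (HomologicalComplex.eval _ _ i).map_isZero hz
  haveI : CochainComplex.IsStrictlyLE (HomologicalComplex.zero : CochainComplex (Mod O) ℤ) b :=
    (CochainComplex.isStrictlyLE_iff _ b).2 fun i _ => hzj i
  exact ⟨(exists_lvl G HomologicalComplex.zero b (fun i => isFreeSum_of_isZero (hzj i)) 0).choose⟩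

theorem exists_next (n : ℕ) (L : Lvl G ((n : ℤ) + 1)) :
    ∃ (M : Lvl G (((n + 1 : ℕ) : ℤ) + 1)) (i : L.K ⟶ M.K),
      i ≫ M.π ≫ G.ιTruncLE (((n + 1 : ℕ) : ℤ) + 1) = L.π ≫ G.ιTruncLE ((n : ℤ) + 1) ∧
      ∀ j, ∃ r : M.K.X j ⟶ L.K.X j, i.f j ≫ r = 𝟙 _ ∧ IsFreeSum (cokernel (i.f j)) := by
  haveI := L.le
  haveI := L.K.isStrictlyLE_of_le ((n : ℤ) + 1) (((n + 1 : ℕ) : ℤ) + 1) (by omega)
  obtain ⟨M, i, h₁, h₂⟩ := exists_lvl G L.K (((n + 1 : ℕ) : ℤ) + 1) L.free
    (L.π ≫ truncStep G _ _ (by omega))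
  refine ⟨M, i, ?_, h₂⟩
  rw [reassoc_of% h₁, truncStep_ι]

/-- The levels. -/
noncomputable def lvl : (n : ℕ) → Lvl G ((n : ℤ) + 1)
  | 0 => (exists_start G _).some
  | n + 1 => (exists_next G n (lvl n)).choose

/-- The system. -/
noncomputable def sys : ℕ ⥤ CochainComplex (Mod O) ℤ :=
  Functor.ofSequence (X := fun n => (lvl G n).K)
    (fun n => (exists_next G n (lvl G n)).choose_spec.choose)

theorem sys_step (n : ℕ) :
    (sys G).map (homOfLE (Nat.le_succ n)) = (exists_next G n (lvl G n)).choose_spec.choose :=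
  Functor.ofSequence_map_homOfLE_succ _ n

/-- The cocone to `G`. -/
noncomputable def sysToG : sys G ⟶ (Functor.const ℕ).obj G :=
  NatTrans.ofSequence (fun n => (lvl G n).π ≫ G.ιTruncLE ((n : ℤ) + 1)) fun n => by
    rw [sys_step]
    exact (exists_next G n (lvl G n)).choose_spec.choose_spec.1.trans (Category.comp_id _).symm

theorem isIso_homologyMap_sysToG (i : ℤ) (n : ℕ) (h : i ≤ (n : ℤ) + 1) :
    IsIso (HomologicalComplex.homologyMap ((sysToG G).app n) i) := by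
  have h₁ : QuasiIso (lvl G n).π := (lvl G n).qis
  have h₂ : QuasiIsoAt (G.ιTruncLE ((n : ℤ) + 1)) i :=
    CochainComplex.quasiIsoAt_ιTruncLE G _ i h
  haveI : QuasiIsoAt (lvl G n).π i := h₁.quasiIsoAt i
  rw [← quasiIsoAt_iff_isIso_homologyMap]
  change QuasiIsoAt ((lvl G n).π ≫ G.ιTruncLE ((n : ℤ) + 1)) i
  infer_instance

theorem exists_system :
    ∃ (Kc : ℕ ⥤ CochainComplex (Mod O) ℤ) (π : ∀ n : ℕ, Kc.obj n ⟶ G.truncLE ((n : ℤ) + 1)),
      (∀ n : ℕ, Kc.map (homOfLE (Nat.le_succ n)) ≫ π (n + 1) ≫ G.ιTruncLE (((n + 1 : ℕ) : ℤ) + 1) =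
        π n ≫ G.ιTruncLE ((n : ℤ) + 1)) ∧
      (∀ n : ℕ, QuasiIso (π n) ∧ ∀ i : ℤ, Epi ((π n).f i)) ∧
      (∀ n : ℕ, ∃ b : ℤ, (Kc.obj n).IsStrictlyLE b) ∧
      (∀ (n : ℕ) (i : ℤ), IsFreeSum ((Kc.obj n).X i)) ∧
      (∀ (n : ℕ) (i : ℤ), ∃ r : (Kc.obj (n + 1)).X i ⟶ (Kc.obj n).X i,
        (Kc.map (homOfLE (Nat.le_succ n))).f i ≫ r = 𝟙 _ ∧
        IsFreeSum (cokernel ((Kc.map (homOfLE (Nat.le_succ n))).f i))) ∧
      ∃ c : colimit Kc ⟶ G, (∀ n : ℕ, colimit.ι Kc n ≫ c = π n ≫ G.ιTruncLE ((n : ℤ) + 1)) ∧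
        QuasiIso c := by
  refine ⟨sys G, fun n => (lvl G n).π, fun n => ?_, fun n => ⟨(lvl G n).qis, (lvl G n).epi⟩,
    fun n => ⟨_, (lvl G n).le⟩, fun n => (lvl G n).free, fun n => ?_,
    colimit.desc _ ⟨G, sysToG G⟩, fun n => colimit.ι_desc _ n, ⟨fun i => ?_⟩⟩
  · rw [sys_step]
    exact (exists_next G n (lvl G n)).choose_spec.choose_spec.1
  · rw [sys_step]
    exact (exists_next G n (lvl G n)).choose_spec.choose_spec.2
  · rw [quasiIsoAt_iff_isIso_homologyMap]
    have : AB5OfSize.{0, 0} AddCommGrpCat.{u} := AB5OfSize_shrink.{0, 0, u, u} _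
    have : HasExactColimitsOfShape ℕ (Mod O) := inferInstance
    let H := HomologicalComplex.homologyFunctor (Mod O) (ComplexShape.up ℤ) i
    have : PreservesColimit (sys G) H := inferInstance
    let g : ∀ n, H.obj ((sys G).obj n) ⟶ H.obj G := fun n => H.map ((sysToG G).app n)
    have hg : ∀ n, i.toNat ≤ n → IsIso (g n) := fun n hn =>
      isIso_homologyMap_sysToG G i n (by omega)
    let l : ∀ n, H.obj ((sys G).obj n) ⟶ H.obj (colimit (sys G)) :=
      fun n => H.map (colimit.ι (sys G) n)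
    have hl : ∀ n m (h : n ≤ m), H.map ((sys G).map (homOfLE h)) ≫ l m = l n := fun n m h => by
      rw [← H.map_comp, colimit.w]
    have hgm : ∀ n m (h : n ≤ m), H.map ((sys G).map (homOfLE h)) ≫ g m = g n := fun n m h => by
      rw [← H.map_comp, (sysToG G).naturality]
      simp [g]
    have hlg : ∀ n, l n ≫ H.map (colimit.desc _ ⟨G, sysToG G⟩) = g n := fun n => by
      rw [← H.map_comp, colimit.ι_desc]
    haveI : IsIso (g i.toNat) := hg i.toNat le_rfl
    have hs : ∀ m, i.toNat ≤ m → l m = g m ≫ inv (g i.toNat) ≫ l i.toNat := fun m hm => by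
      haveI := hg m hm
      haveI : IsIso (H.map ((sys G).map (homOfLE hm))) :=
        IsIso.of_isIso_fac_right (hgm _ _ hm)
      rw [← cancel_epi (H.map ((sys G).map (homOfLE hm))), hl, reassoc_of% (hgm _ _ hm)]
      simp
    let w : H.obj G ⟶ H.obj (colimit (sys G)) := inv (g i.toNat) ≫ l i.toNat
    refine ⟨w, ?_, ?_⟩
    · refine (isColimitOfPreserves H (colimit.isColimit (sys G))).hom_ext fun n => ?_
      change l n ≫ H.map (colimit.desc _ ⟨G, sysToG G⟩) ≫ inv (g i.toNat) ≫ l i.toNat = l n ≫ 𝟙 _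
      rw [reassoc_of% (hlg n), Category.comp_id, ← hgm n _ (le_max_left n i.toNat), Category.assoc,
        ← hs _ (le_max_right _ _), hl]
    · change (inv (g i.toNat) ≫ l i.toNat) ≫ H.map (colimit.desc _ ⟨G, sysToG G⟩) = 𝟙 _
      rw [Category.assoc]
      exact (congrArg (inv (g i.toNat) ≫ ·) (hlg _)).trans (IsIso.inv_hom_id _)

end FreeSum

end Groth.Agent.ModFlat
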