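import Groth.Agent.ModFlat.Basic
import Groth.Agent.KFlat.Resolution
import Mathlib.CategoryTheory.Abelian.Refinements
import Mathlib.Algebra.Homology.Refinements

/-!
# Cycles of acyclic complexes of flat modules
-/

set_option autoImplicit false

universe u

open CategoryTheory CategoryTheory.Limits ModSite
open Groth.Agent.KFlat

namespace Groth.Agent.ModFlat

variable {C : Type u} [SmallCategory C] {J : GrothendieckTopology C} {O : Sheaf J CommRingCat.{u}}

section

variable {A : Type*} [Category A] [Abelian A] (K : CochainComplex A ℤ)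

theorem epi_toCycles (hK : K.Acyclic) (m n : ℤ) (h : m + 1 = n) :
    Epi (K.liftCycles (K.d m n) (n + 1) (by simp) (K.d_comp_d _ _ _)) := by
  rw [epi_iff_surjective_up_to_refinements]
  intro W z
  obtain ⟨W', s, hs, y, hy⟩ := ((K.exactAt_iff' m n (n + 1) (by simp; omega) (by simp)).1
    (hK n)).exact_up_to_refinements (z ≫ K.iCycles n)
    (((Category.assoc _ _ _).trans (congrArg (z ≫ ·) (K.iCycles_d n (n + 1)))).trans comp_zero)
  refine ⟨W', s, hs, y, ?_⟩
  rw [← cancel_mono (K.iCycles n), Category.assoc, Category.assoc, K.liftCycles_i]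
  exact hy

theorem mono_map_iCycles (hK : K.Acyclic) {B : Type*} [Category B] [Abelian B] (T : A ⥤ B)
    [T.Additive] (hepi : ∀ {X Y : A} (f : X ⟶ Y) [Epi f], Epi (T.map f))
    (hT : ∀ p, ((K.sc' p (p + 1) (p + 1 + 1)).map T).Exact) (n : ℤ) :
    Mono (T.map (K.iCycles n)) := by
  obtain ⟨p, rfl⟩ : ∃ p, p + 1 + 1 = n := ⟨n - 1 - 1, by omega⟩
  refine Preadditive.mono_of_cancel_zero _ fun {W} x hx => ?_
  let q := K.liftCycles (K.d (p + 1) (p + 1 + 1)) (p + 1 + 1 + 1) (by simp) (K.d_comp_d _ _ _)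
  have hq : Epi q := epi_toCycles K hK (p + 1) (p + 1 + 1) rfl
  have hqi : q ≫ K.iCycles (p + 1 + 1) = K.d (p + 1) (p + 1 + 1) := K.liftCycles_i _ _ _ _
  have hdq : K.d p (p + 1) ≫ q = 0 := by
    rw [← cancel_mono (K.iCycles (p + 1 + 1)), Category.assoc, hqi, K.d_comp_d, zero_comp]
  have : Epi (T.map q) := hepi q
  obtain ⟨W', s, hs, y, hy⟩ := surjective_up_to_refinements_of_epi (T.map q) x
  have hy0 : y ≫ ((K.sc' p (p + 1) (p + 1 + 1)).map T).g = 0 := by
    change y ≫ T.map (K.d (p + 1) (p + 1 + 1)) = 0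
    rw [← hqi, T.map_comp, ← reassoc_of% hy, hx, comp_zero]
  obtain ⟨W'', s', hs', w, hw⟩ := (hT p).exact_up_to_refinements y hy0
  have hz : ((K.sc' p (p + 1) (p + 1 + 1)).map T).f ≫ T.map q = 0 :=
    (T.map_comp _ _).symm.trans ((congrArg T.map hdq).trans (T.map_zero _ _))
  rw [← cancel_epi s, ← cancel_epi s', comp_zero, comp_zero, hy]
  exact ((Category.assoc _ _ _).symm.trans ((congrArg (· ≫ T.map q) hw).trans
    ((Category.assoc _ _ _).trans (congrArg (w ≫ ·) hz)))).trans comp_zero

end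

instance epi_tensorBi_flip_map (F : Mod O) {X Y : Mod O} (f : X ⟶ Y) [Epi f] :
    Epi (((tensorBi O).flip.obj F).map f) :=
  have := preservesColimitsOfSize_tensorBi_flip_obj (O := O) F
  inferInstance

/-- Tensoring an acyclic K-flat complex with a module gives an exact complex. -/
theorem exact_map_of_isKFlat {K : CochainComplex (Mod O) ℤ} (hK : ModSite.IsKFlat K) (hac : K.Acyclic)
    (F : Mod O) (p : ℤ) : ((K.sc' p (p + 1) (p + 1 + 1)).map ((tensorBi O).flip.obj F)).Exact := by
  let S := (HomologicalComplex.single (Mod O) (ComplexShape.up ℤ) 0).obj F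
  let ρ : (res O).obj S ⟶ S := (resπ O).app S
  have hρ : QuasiIso ρ := quasiIso_resπ S
  have h₁ : QuasiIso (((tens O).flip.obj K).map ρ) := quasiIso_tens_flip hK ρ
  have h₂ : HomologicalComplex.Acyclic (((tens O).obj ((res O).obj S)).obj K) :=
    acyclic_tens_left (isKFlat_res S) hac
  have h₄ : HomologicalComplex.Acyclic (((tens O).flip.obj K).obj S) :=
    acyclic_of_quasiIso_left (((tens O).flip.obj K).map ρ) h₂
  have h₃ : HomologicalComplex.Acyclic (((tens O).obj K).obj S) :=
    acyclic_of_iso (((tensFlipIso O).app K).app S) h₄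
  have hex := ((((tens O).obj K).obj S).exactAt_iff' (p + 0) (p + 1 + 0) (p + 1 + 1 + 0) (by simp)
    (by simp)).1 (h₃ (p + 1 + 0))
  refine ShortComplex.exact_of_iso (ShortComplex.isoMk (totSingleIso (tensorBi O) K 0 F p _ rfl)
    (totSingleIso (tensorBi O) K 0 F (p + 1) _ rfl)
    (totSingleIso (tensorBi O) K 0 F (p + 1 + 1) _ rfl) ?_ ?_).symm hex
  · exact totSingleIso_comm (tensorBi O) K 0 F p _ _ rfl (by omega)
  · exact totSingleIso_comm (tensorBi O) K 0 F (p + 1) _ _ rfl (by omega)

/-- The cycles of an acyclic complex are flat when the terms are flat and all tensor complexes exact. -/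
theorem tensorMono_cycles {K : CochainComplex (Mod O) ℤ} (hac : K.Acyclic)
    (hT : ∀ (F : Mod O) p, ((K.sc' p (p + 1) (p + 1 + 1)).map ((tensorBi O).flip.obj F)).Exact)
    (hfl : ∀ i, TensorMono (K.X i)) (n : ℤ) : TensorMono (K.cycles n) := by
  have hm : ∀ F : Mod O, Mono (((tensorBi O).map (K.iCycles n)).app F) := fun F =>
    mono_map_iCycles K hac ((tensorBi O).flip.obj F) (fun f hf => @epi_tensorBi_flip_map _ _ _ _ F _ _ f hf) (hT F) n
  have : ((tensorBi O).obj (K.X n)).PreservesMonomorphisms :=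
    haveI : ((tensorBi O).flip.obj (K.X n)).PreservesMonomorphisms := hfl n
    Functor.PreservesMonomorphisms.of_iso ((tensorBiFlipIso O).app (K.X n))
  have hZ : ((tensorBi O).obj (K.cycles n)).PreservesMonomorphisms := ⟨fun {X Y} f hf => by
    have := hm X
    have h₁ : Mono (((tensorBi O).map (K.iCycles n)).app X ≫ ((tensorBi O).obj (K.X n)).map f) :=
      mono_comp _ _
    rw [← ((tensorBi O).map (K.iCycles n)).naturality f] at h₁
    exact mono_of_mono _ (((tensorBi O).map (K.iCycles n)).app Y)⟩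
  exact Functor.PreservesMonomorphisms.of_iso ((tensorBiFlipIso O).app (K.cycles n)).symm

end Groth.Agent.ModFlat
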