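import Groth.Agent.ModFlat.Relations
import Groth.Agent.ModFlat.Cocont
import Groth.Agent.ModFlat.Free
import Mathlib.Algebra.Category.ModuleCat.Sheaf.Quasicoherent

/-!
# Maps from finitely presented to flat modules factor locally through finite free modules
-/

set_option autoImplicit false

universe u

open CategoryTheory CategoryTheory.Limits Opposite ModSite

namespace Groth.Agent.ModFlat.LocalFactor

variable {C : Type u} [SmallCategory C] {J : GrothendieckTopology C} {O : Sheaf J CommRingCat.{u}}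

/-- Restriction from `C/X` to `C/Y` along `f : Y ⟶ X`. -/
noncomputable def res {X Y : C} (f : Y ⟶ X) : Mod (O.over X) ⥤ Mod (O.over Y) :=
  SheafOfModules.overMap (ringSh O) f

/-- `res` preserves the structure sheaf. -/
noncomputable def resUnitIso {X Y : C} (f : Y ⟶ X) :
    (res (O := O) f).obj (SheafOfModules.unit (ringSh (O.over X))) ≅
      SheafOfModules.unit (ringSh (O.over Y)) :=
  SheafOfModules.overMapUnitIso (R := ringSh O) f

/-- `res` of a restriction is the restriction. -/
noncomputable def resRestr {X Y : C} (f : Y ⟶ X) : restr O X ⋙ res f ≅ restr O Y :=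
  SheafOfModules.overFunctorMap (ringSh O) f

instance preservesColimitsOfSize_res {X Y : C} (f : Y ⟶ X) :
    PreservesColimitsOfSize.{u, u} (res (O := O) f) :=
  ⟨fun {I} _ => Cocont.preservesColimitsOfShape_pushforward
    (Sheaf.pushforwardOverMapIso (ringSh O) f).inv I⟩

instance additive_res {X Y : C} (f : Y ⟶ X) : (res (O := O) f).Additive where
  map_add := rfl

variable (O) in
/-- Elements of `M` over `X` are maps from the structure sheaf of `C/X`. -/
noncomputable def el (X : C) (M : Mod O) :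
    (SheafOfModules.unit (ringSh (O.over X)) ⟶ (restr O X).obj M) ≃ sect M X :=
  ((restr O X).obj M).unitHomEquiv.trans (overSectionsEquiv O X M)

theorem el_add (X : C) (M : Mod O)
    (a b : SheafOfModules.unit (ringSh (O.over X)) ⟶ (restr O X).obj M) :
    el O X M (a + b) = el O X M a + el O X M b := rfl

theorem el_zero (X : C) (M : Mod O) :
    el O X M (0 : SheafOfModules.unit (ringSh (O.over X)) ⟶ (restr O X).obj M) = 0 := rfl

theorem el_sum (X : C) (M : Mod O) {n : ℕ}
    (a : Fin n → (SheafOfModules.unit (ringSh (O.over X)) ⟶ (restr O X).obj M)) :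
    el O X M (∑ i, a i) = ∑ i, el O X M (a i) :=
  map_sum (AddMonoidHom.mk' (el O X M) (el_add X M)) a _

variable (O) in
/-- Endomorphisms of the structure sheaf of `C/X` are sections over `X`. -/
noncomputable def elU (X : C) :
    (SheafOfModules.unit (ringSh (O.over X)) ⟶ SheafOfModules.unit (ringSh (O.over X))) ≃
      O.obj.obj (op X) :=
  el O X (SheafOfModules.unit (ringSh O))

theorem elU_sum (X : C) {n : ℕ}
    (a : Fin n → (SheafOfModules.unit (ringSh (O.over X)) ⟶ SheafOfModules.unit (ringSh (O.over X)))) :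
    elU O X (∑ i, a i) = ∑ i, elU O X (a i) :=
  el_sum X (SheafOfModules.unit (ringSh O)) a

theorem el_comp (X : C) (M : Mod O)
    (x : SheafOfModules.unit (ringSh (O.over X)) ⟶ SheafOfModules.unit (ringSh (O.over X)))
    (y : SheafOfModules.unit (ringSh (O.over X)) ⟶ (restr O X).obj M) :
    el O X M (x ≫ y) = elU O X x • el O X M y := by
  let c : O.obj.obj (op X) := x.val.app (op (Over.mk (𝟙 X))) (1 : O.obj.obj (op X))
  let yl : O.obj.obj (op X) →ₗ[O.obj.obj (op X)] sect M X := (y.val.app (op (Over.mk (𝟙 X)))).hom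
  change yl c = c • yl 1
  rw [← map_smul, smul_eq_mul, mul_one]

theorem elU_comp (X : C)
    (x y : SheafOfModules.unit (ringSh (O.over X)) ⟶ SheafOfModules.unit (ringSh (O.over X))) :
    elU O X (x ≫ y) = elU O X x * elU O X y :=
  el_comp X (SheafOfModules.unit (ringSh O)) x y

theorem el_res {X Y : C} (f : Y ⟶ X) (M : Mod O)
    (y : SheafOfModules.unit (ringSh (O.over X)) ⟶ (restr O X).obj M) :
    el O Y M ((resUnitIso f).inv ≫ (res f).map y ≫
      ((resRestr f).app M).hom) = rs M f (el O X M y) := by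
  have h := PresheafOfModules.naturality_apply y.val
    (Over.homMk f : (Over.map f).obj (Over.mk (𝟙 Y)) ⟶ Over.mk (𝟙 X)).op (1 : O.obj.obj (op X))
  refine Eq.trans ?_ h
  refine congrArg (y.val.app (op ((Over.map f).obj (Over.mk (𝟙 Y))))) ?_
  exact (map_one (O.obj.map f.op).hom).symm

theorem elU_res {X Y : C} (f : Y ⟶ X)
    (x : SheafOfModules.unit (ringSh (O.over X)) ⟶ SheafOfModules.unit (ringSh (O.over X))) :
    elU O Y ((resUnitIso f).inv ≫ (res f).map x ≫
      (resUnitIso f).hom) = (O.obj.map f.op).hom (elU O X x) :=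
  el_res f (SheafOfModules.unit (ringSh O)) x

section Free

variable {D : Type u} [SmallCategory D] {K : GrothendieckTopology D} {R : Sheaf K CommRingCat.{u}}
  {I : Type u} [Fintype I] [DecidableEq I]

/-- Projection of a finite free module to one factor. -/
noncomputable def proj (i : I) : SheafOfModules.free (R := ringSh R) I ⟶ SheafOfModules.unit _ :=
  Cofan.IsColimit.desc (SheafOfModules.isColimitFreeCofan I)
    (fun j => if j = i then 𝟙 _ else 0)

theorem ιFree_proj (j i : I) :
    SheafOfModules.ιFree (R := ringSh R) j ≫ proj i = if j = i then 𝟙 _ else 0 :=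
  Cofan.IsColimit.fac (SheafOfModules.isColimitFreeCofan I) _ j

theorem free_decomp {T : Mod R} (r : T ⟶ SheafOfModules.free I) :
    r = ∑ i, (r ≫ proj i) ≫ SheafOfModules.ιFree i := by
  have h : ∑ i, proj (R := R) i ≫ SheafOfModules.ιFree (I := I) i = 𝟙 _ := by
    refine Cofan.IsColimit.hom_ext (SheafOfModules.isColimitFreeCofan I) _ _ fun j => ?_
    change SheafOfModules.ιFree j ≫ (∑ i, proj i ≫ SheafOfModules.ιFree i) =
      SheafOfModules.ιFree (R := ringSh R) j ≫ 𝟙 (SheafOfModules.free I)
    rw [Preadditive.comp_sum, Category.comp_id, Finset.sum_eq_single j]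
    · rw [← Category.assoc, ιFree_proj, if_pos rfl, Category.id_comp]
    · intro i _ hi
      rw [← Category.assoc, ιFree_proj, if_neg (Ne.symm hi), zero_comp]
    · simp
  simp only [Category.assoc, ← Preadditive.comp_sum, h, Category.comp_id]

end Free

theorem main {F H : Mod O} (hH : LocTriv H) (φ : F ⟶ H) {Z : C}
    (P : ((restr O Z).obj F).Presentation) [P.IsFinite] :
    ∃ S ∈ J Z, ∀ ⦃W : C⦄ (g : W ⟶ Z), S g →
      ∃ (n : ℕ) (a : (restr O W).obj F ⟶ SheafOfModules.free (ULift.{u} (Fin n)))
        (b : SheafOfModules.free (ULift.{u} (Fin n)) ⟶ (restr O W).obj H),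
        a ≫ b = (restr O W).map φ := by
  classical
  let n := Nat.card P.generators.I
  let m := Nat.card P.relations.I
  let e : P.generators.I ≃ Fin n := Finite.equivFin _
  let e' : P.relations.I ≃ Fin m := Finite.equivFin _
  letI : Fintype P.generators.I := Fintype.ofFinite _
  let π : SheafOfModules.free P.generators.I ⟶ (restr O Z).obj F := P.generators.π
  let r : SheafOfModules.free P.relations.I ⟶ SheafOfModules.free (R := ringSh (O.over Z)) P.generators.I :=
    (SheafOfModules.freeHomEquiv _).symm P.relations.s ≫ kernel.ι P.generators.π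
  have hrπ : r ≫ π = 0 := by simp [r, π]
  let ψ := π ≫ (restr O Z).map φ
  let x : P.relations.I → P.generators.I → (SheafOfModules.unit (ringSh (O.over Z)) ⟶
      SheafOfModules.unit (ringSh (O.over Z))) :=
    fun k i => (SheafOfModules.ιFree k ≫ r) ≫ proj i
  let y : P.generators.I → (SheafOfModules.unit (ringSh (O.over Z)) ⟶ (restr O Z).obj H) :=
    fun i => SheafOfModules.ιFree i ≫ ψ
  let s : Fin n → sect H Z := fun j => el O Z H (y (e.symm j))
  let c : Fin m → Fin n → O.obj.obj (op Z) := fun l j => elU O Z (x (e'.symm l) (e.symm j))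
  have hk : ∀ k, SheafOfModules.ιFree k ≫ r = ∑ j, x k (e.symm j) ≫ SheafOfModules.ιFree (e.symm j) :=
    fun k => (free_decomp (SheafOfModules.ιFree k ≫ r)).trans
      (Fintype.sum_equiv e _ _ fun i => by simp [x])
  have hrel : ∀ l, ∑ j, c l j • s j = 0 := fun l => by
    rw [← el_zero Z H]
    have h₀ : (SheafOfModules.ιFree (e'.symm l) ≫ r) ≫ ψ = 0 := by
      rw [Category.assoc, reassoc_of% hrπ, zero_comp, comp_zero]
    rw [← h₀, hk, Preadditive.sum_comp, el_sum]
    exact Finset.sum_congr rfl fun j _ => by rw [Category.assoc]; exact (el_comp Z H _ _).symm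
  obtain ⟨S, hS, hS'⟩ := hH Z n m s c hrel
  refine ⟨S, hS, fun W g hg => ?_⟩
  obtain ⟨k, t, d, hd₁, hd₂⟩ := hS' g hg
  let G := res (O := O) g
  let η := resUnitIso (O := O) g
  let cell : Fin n → (SheafOfModules.unit (ringSh (O.over W)) ⟶
      SheafOfModules.free (ULift.{u} (Fin k))) :=
    fun j => ∑ j', (elU O W).symm (d j j') ≫ SheafOfModules.ιFree (ULift.up j')
  have hG : IsColimit (Cofan.mk (G.obj (SheafOfModules.free P.generators.I))
      fun i => G.map (SheafOfModules.ιFree i)) :=
    isColimitCofanMkObjOfIsColimit G _ _ (SheafOfModules.isColimitFreeCofan P.generators.I)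
  have hG' : IsColimit (Cofan.mk (G.obj (SheafOfModules.free P.relations.I))
      fun i => G.map (SheafOfModules.ιFree i)) :=
    isColimitCofanMkObjOfIsColimit G _ _ (SheafOfModules.isColimitFreeCofan P.relations.I)
  let a₀ : G.obj (SheafOfModules.free P.generators.I) ⟶ SheafOfModules.free (ULift.{u} (Fin k)) :=
    Cofan.IsColimit.desc hG (fun i => η.hom ≫ cell (e i))
  have ha₀ : ∀ i, G.map (SheafOfModules.ιFree i) ≫ a₀ = η.hom ≫ cell (e i) :=
    fun i => Cofan.IsColimit.fac hG _ i
  have hzero : G.map r ≫ a₀ = 0 := by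
    refine Cofan.IsColimit.hom_ext hG' _ _ fun l => ?_
    change G.map (SheafOfModules.ιFree l) ≫ G.map r ≫ a₀ = G.map (SheafOfModules.ιFree l) ≫ 0
    rw [← G.map_comp_assoc, hk, comp_zero, G.map_sum, Preadditive.sum_comp]
    simp only [G.map_comp, Category.assoc, ha₀, Equiv.apply_symm_apply, cell, Preadditive.comp_sum]
    rw [Finset.sum_comm]
    refine Finset.sum_eq_zero fun j' _ => ?_
    have hj : ∀ j, G.map (x l (e.symm j)) ≫ η.hom ≫ (elU O W).symm (d j j') ≫
        SheafOfModules.ιFree (R := ringSh (O.over W)) (ULift.up j') =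
        η.hom ≫ ((η.inv ≫ G.map (x l (e.symm j)) ≫ η.hom) ≫ (elU O W).symm (d j j')) ≫
          SheafOfModules.ιFree (ULift.up j') := fun j => by
      simp only [Category.assoc, Iso.hom_inv_id_assoc]
    simp only [hj, ← Preadditive.comp_sum, ← Preadditive.sum_comp]
    have h₀ : (∑ j, (η.inv ≫ G.map (x l (e.symm j)) ≫ η.hom) ≫ (elU O W).symm (d j j')) = 0 := by
      apply (elU O W).injective
      rw [elU_sum]
      refine Eq.trans (Finset.sum_congr rfl fun j _ => ?_) ((hd₂ (e' l) j').trans (el_zero W (SheafOfModules.unit (ringSh O))).symm)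
      rw [elU_comp, elU_res, Equiv.apply_symm_apply, mul_comm]
      simp [c]
    rw [h₀, zero_comp, comp_zero]
  let FM := resRestr (O := O) g
  let hcok : IsColimit (CokernelCofork.ofπ (f := r) π hrπ) := P.isColimit
  have hGc := CokernelCofork.mapIsColimit _ hcok G
  obtain ⟨a₁, ha₁⟩ := CokernelCofork.IsColimit.desc' hGc a₀ hzero
  let b : SheafOfModules.free (ULift.{u} (Fin k)) ⟶ (restr O W).obj H :=
    Cofan.IsColimit.desc (SheafOfModules.isColimitFreeCofan _) (fun j' => (el O W H).symm (t j'.down))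
  have hb : ∀ j', SheafOfModules.ιFree j' ≫ b = (el O W H).symm (t j'.down) :=
    fun j' => Cofan.IsColimit.fac (SheafOfModules.isColimitFreeCofan _) _ j'
  refine ⟨k, (FM.app F).inv ≫ a₁, b, ?_⟩
  rw [Category.assoc, Iso.inv_comp_eq]
  refine Eq.trans ?_ (FM.hom.naturality φ)
  have ha₁' : G.map π ≫ a₁ = a₀ := ha₁
  have : Epi (G.map π) := Cofork.IsColimit.epi hGc
  rw [← cancel_epi (G.map π), reassoc_of% ha₁']
  refine Cofan.IsColimit.hom_ext hG _ _ fun i => ?_
  change G.map (SheafOfModules.ιFree i) ≫ a₀ ≫ b = G.map (SheafOfModules.ιFree i) ≫ G.map π ≫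
    G.map ((restr O Z).map φ) ≫ (FM.app H).hom
  rw [reassoc_of% (ha₀ i), ← G.map_comp_assoc, ← G.map_comp_assoc, Category.assoc,
    ← cancel_epi η.inv, Iso.inv_hom_id_assoc]
  apply (el O W H).injective
  rw [show SheafOfModules.ιFree i ≫ π ≫ (restr O Z).map φ = y i from rfl]
  refine Eq.trans ?_ (el_res g H (y i)).symm
  rw [show el O Z H (y i) = s (e i) by simp [s], hd₁]
  simp only [cell, Preadditive.sum_comp, Category.assoc, hb, el_sum]
  exact Finset.sum_congr rfl fun j' _ => by
    rw [el_comp, Equiv.apply_symm_apply, Equiv.apply_symm_apply]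

theorem exists_local_factor {F H : Mod O} [F.IsFinitePresentation] (hH : ModSite.IsFlat H)
    (φ : F ⟶ H) (X : C) :
    ∃ (ι : Type u) (Y : ι → C) (g : ∀ i, Y i ⟶ X), Sieve.ofArrows Y g ∈ J X ∧
      ∀ i, ∃ (n : ℕ) (a : (ModSite.restr O (Y i)).obj F ⟶ SheafOfModules.free (ULift.{u} (Fin n)))
        (b : SheafOfModules.free (ULift.{u} (Fin n)) ⟶ (ModSite.restr O (Y i)).obj H),
        a ≫ b = (ModSite.restr O (Y i)).map φ := by
  obtain ⟨σ, hσ⟩ := SheafOfModules.IsFinitePresentation.exists_quasicoherentData F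
  let Good : ∀ Y : C, Prop := fun Y => ∃ (n : ℕ)
    (a : (ModSite.restr O Y).obj F ⟶ SheafOfModules.free (ULift.{u} (Fin n)))
    (b : SheafOfModules.free (ULift.{u} (Fin n)) ⟶ (ModSite.restr O Y).obj H),
    a ≫ b = (ModSite.restr O Y).map φ
  let ι : Type u := Σ Y : C, { _g : Y ⟶ X // Good Y }
  refine ⟨ι, fun i => i.1, fun i => i.2.1, ?_, fun i => i.2.2⟩
  have key : ∀ ⦃Z : C⦄ (g : Z ⟶ X), Sieve.ofObjects σ.X X g →
      ∃ S ∈ J Z, ∀ ⦃W : C⦄ (h : W ⟶ Z), S h → Good W := by
    intro Z g hg
    obtain ⟨i, ⟨v⟩⟩ := hg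
    let P : ((restr O (σ.X i)).obj F).Presentation := σ.presentation i
    have : P.IsFinite := hσ.isFinite_presentation i
    have hf₁ : Finite P.generators.I := this.isFiniteType_generators.finite
    have hf₂ : Finite P.relations.I := this.isFiniteType_relations.finite
    haveI : PreservesColimitsOfSize.{u, u} (res (O := O) v) := preservesColimitsOfSize_res v
    let Q : ((restr O Z).obj F).Presentation :=
      SheafOfModules.Presentation.ofIsIso ((resRestr (O := O) v).app F).hom
        (P.map (res v) (resUnitIso v).symm)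
    have : Q.IsFinite :=
      { isFiniteType_generators := ⟨hf₁⟩
        isFiniteType_relations := ⟨hf₂⟩ }
    exact main (locTriv_of_isFlat hH) φ Q
  choose S hS hS' using key
  refine J.superset_covering ?_ (J.bind_covering (σ.coversTop X) fun Z g hg => hS g hg)
  rintro W _ ⟨Z, h, g, hg, hh, rfl⟩
  exact Sieve.ofArrows_mk _ _ (⟨W, h ≫ g, hS' g hg h hh⟩ : ι)

end Groth.Agent.ModFlat.LocalFactor
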