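import Mathlib.Algebra.Homology.HomologySequence
import Mathlib.Algebra.Homology.Refinements
import Mathlib.Algebra.Homology.HomologicalComplexAbelian
import Mathlib.CategoryTheory.Abelian.Refinements
import Mathlib.Algebra.Homology.Embedding.StupidTrunc
import Mathlib.Algebra.Homology.Embedding.CochainComplex
import Mathlib.Algebra.Homology.Embedding.ExtendHomology

/-!
# Factoring maps of complexes bounded above as split injection with projective-like cokernel
followed by a termwise surjective quasi-isomorphism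
-/

set_option autoImplicit false

universe v u

open CategoryTheory CategoryTheory.Limits

namespace Groth.Agent.ModFlat.CplxRes

variable {A : Type u} [Category.{v} A] [Abelian A] (P : A → A) (p : ∀ X, P X ⟶ X) [∀ X, Epi (p X)]
  {K H : ChainComplex A ℕ} (φ : K ⟶ H)

/-- One degree of the factorisation. -/
structure Stage (m : ℕ) where
  /-- the object -/
  X : A
  /-- the cokernel of the injection -/
  F : A
  /-- the splitting -/
  split : K.X m ⊞ F ≅ X
  /-- the projection -/
  π : X ⟶ H.X m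
  hι : biprod.inl ≫ split.hom ≫ π = φ.f m
  /-- target of the outgoing map -/
  W : A
  /-- the outgoing map -/
  e : X ⟶ W
  hK : ∀ k, K.d k m ≫ biprod.inl ≫ split.hom ≫ e = 0
  free : ∃ Y, Nonempty (F ≅ P Y)

variable {P} {φ}

theorem Stage.hι_assoc' {m : ℕ} (s : Stage P φ m) {Z : A} (g : H.X m ⟶ Z) :
    biprod.inl ≫ s.split.hom ≫ s.π ≫ g = φ.f m ≫ g := by
  rw [← s.hι, Category.assoc, Category.assoc]

/-- The next degree. -/
noncomputable def Stage.next {m : ℕ} (s : Stage P φ m) : Stage P φ (m + 1) where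
  X := K.X (m + 1) ⊞ P (pullback (kernel.ι s.e ≫ s.π) (H.d (m + 1) m))
  F := P (pullback (kernel.ι s.e ≫ s.π) (H.d (m + 1) m))
  split := Iso.refl _
  π := biprod.desc (φ.f (m + 1)) (p _ ≫ pullback.snd _ _)
  hι := by simp
  W := kernel s.e
  e := biprod.desc (kernel.lift s.e (K.d (m + 1) m ≫ biprod.inl ≫ s.split.hom)
    (by simpa using s.hK (m + 1))) (p _ ≫ pullback.fst _ _)
  hK k := by
    rw [← cancel_mono (kernel.ι s.e)]
    simp
  free := ⟨_, ⟨Iso.refl _⟩⟩

variable (P φ)

/-- All degrees. -/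
noncomputable def stage : (m : ℕ) → Stage P φ m
  | 0 =>
    { X := K.X 0 ⊞ P (H.X 0)
      F := P (H.X 0)
      split := Iso.refl _
      π := biprod.desc (φ.f 0) (p _)
      hι := by simp
      W := K.X 0 ⊞ P (H.X 0)
      e := 0
      hK := fun k => by simp
      free := ⟨_, ⟨Iso.refl _⟩⟩ }
  | m + 1 => (stage m).next p

/-- The differential. -/
noncomputable def dd (m : ℕ) : (stage P p φ (m + 1)).X ⟶ (stage P p φ m).X :=
  ((stage P p φ (m + 1)).e : (stage P p φ (m + 1)).X ⟶ kernel (stage P p φ m).e) ≫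
    kernel.ι (stage P p φ m).e

theorem dd_dd (m : ℕ) : dd P p φ (m + 1) ≫ dd P p φ m = 0 := by
  rw [dd, dd, Category.assoc]
  exact (congrArg (_ ≫ ·) (kernel.condition_assoc _ _)).trans
    ((congrArg (_ ≫ ·) zero_comp).trans comp_zero)

/-- The factorisation. -/
noncomputable def cx : ChainComplex A ℕ :=
  ChainComplex.of (fun m => (stage P p φ m).X) (dd P p φ) (dd_dd P p φ)

theorem cx_d (m : ℕ) : (cx P p φ).d (m + 1) m = dd P p φ m := by
  simp [cx]

theorem dd_π (m : ℕ) : dd P p φ m ≫ (stage P p φ m).π =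
    (stage P p φ (m + 1)).π ≫ H.d (m + 1) m := by
  change ((biprod.desc _ _ : _ ⊞ _ ⟶ kernel (stage P p φ m).e) ≫ _) ≫ _ = biprod.desc _ _ ≫ _
  refine biprod.hom_ext' _ _ ?_ ?_
  · simp [(stage P p φ m).hι]
  · simp [pullback.condition]

/-- The surjection. -/
noncomputable def π : cx P p φ ⟶ H where
  f m := (stage P p φ m).π
  comm' i j hij := by
    obtain rfl : j + 1 = i := hij
    rw [cx_d]
    exact (dd_π P p φ j).symm

/-- The injection. -/
noncomputable def ι : K ⟶ cx P p φ where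
  f m := biprod.inl ≫ (stage P p φ m).split.hom
  comm' i j hij := by
    obtain rfl : j + 1 = i := hij
    rw [cx_d]
    change (biprod.inl ≫ (Iso.refl _).hom) ≫ (biprod.desc _ _ : _ ⊞ _ ⟶ kernel (stage P p φ j).e) ≫ _ = _
    simp
    exact kernel.lift_ι _ _ _

theorem ι_π : ι P p φ ≫ π P p φ = φ := by
  ext m
  exact (Category.assoc _ _ _).trans (stage P p φ m).hι

/-- Cycles surject onto cycles. -/
theorem exists_cycle (m : ℕ) {T : A} (h : T ⟶ H.X m) (hh : h ≫ H.d m (m - 1) = 0) :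
    ∃ (T' : A) (s : T' ⟶ T) (_ : Epi s) (x : T' ⟶ (stage P p φ m).X),
      x ≫ (stage P p φ m).e = 0 ∧ x ≫ (stage P p φ m).π = s ≫ h := by
  cases m with
  | zero =>
    obtain ⟨T', s, hs, y, hy⟩ := surjective_up_to_refinements_of_epi (p (H.X 0)) h
    exact ⟨T', s, hs, y ≫ biprod.inr, comp_zero, by simp [stage, hy]⟩
  | succ m =>
    obtain ⟨q, hq₁, hq₂⟩ : ∃ q : T ⟶ pullback (kernel.ι (stage P p φ m).e ≫ (stage P p φ m).π) (H.d (m + 1) m),
        q ≫ pullback.fst _ _ = 0 ∧ q ≫ pullback.snd _ _ = h :=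
      ⟨pullback.lift 0 h (by simpa using hh.symm), pullback.lift_fst _ _ _, pullback.lift_snd _ _ _⟩
    obtain ⟨T', s, hs, y, hy⟩ := surjective_up_to_refinements_of_epi (p _) q
    refine ⟨T', s, hs, y ≫ biprod.inr, ?_, ?_⟩
    · change (y ≫ biprod.inr) ≫ (biprod.desc _ _ : _ ⊞ _ ⟶ kernel (stage P p φ m).e) = 0
      simp [← reassoc_of% hy, hq₁, hq₂]
    · change (y ≫ biprod.inr) ≫ biprod.desc _ _ = _
      simp [← reassoc_of% hy, hq₁, hq₂]

theorem cx_cycle (m : ℕ) {T : A} (x : T ⟶ (stage P p φ m).X) (hx : x ≫ (stage P p φ m).e = 0) :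
    x ≫ (cx P p φ).d m (m - 1) = 0 := by
  cases m with
  | zero => exact (congrArg (x ≫ ·) ((cx P p φ).shape 0 0 (by simp))).trans comp_zero
  | succ m =>
    rw [Nat.add_sub_cancel, cx_d, dd]
    exact ((Category.assoc _ _ _).symm.trans (congrArg (· ≫ _) hx)).trans zero_comp

theorem cycle_e (m : ℕ) {T : A} (x : T ⟶ (stage P p φ m).X)
    (hx : x ≫ (cx P p φ).d m (m - 1) = 0) : x ≫ (stage P p φ m).e = 0 := by
  cases m with
  | zero => exact comp_zero
  | succ m =>
    rw [Nat.add_sub_cancel, cx_d, dd] at hx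
    refine equalizer.hom_ext ?_
    exact ((Category.assoc _ _ _).trans hx).trans zero_comp.symm

theorem epi_π_f (m : ℕ) : Epi ((π P p φ).f m) := by
  change Epi (stage P p φ m).π
  rw [epi_iff_surjective_up_to_refinements]
  intro T h
  cases m with
  | zero =>
    obtain ⟨T', s, hs, y, hy⟩ := surjective_up_to_refinements_of_epi (p (H.X 0)) h
    exact ⟨T', s, hs, y ≫ biprod.inr, by simp [stage, hy]⟩
  | succ m =>
    obtain ⟨T₁, s₁, hs₁, x, hx, hxπ⟩ := exists_cycle P p φ m (h ≫ H.d (m + 1) m)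
      (by simp)
    obtain ⟨q, hq₁, hq₂⟩ : ∃ q : T₁ ⟶ pullback (kernel.ι (stage P p φ m).e ≫ (stage P p φ m).π) (H.d (m + 1) m),
        q ≫ pullback.fst _ _ = (kernel.lift _ x hx) ∧ q ≫ pullback.snd _ _ = (s₁ ≫ h) :=
      ⟨pullback.lift (kernel.lift _ x hx) (s₁ ≫ h) (by simp [hxπ]), pullback.lift_fst _ _ _, pullback.lift_snd _ _ _⟩
    obtain ⟨T', s, hs, y, hy⟩ := surjective_up_to_refinements_of_epi (p _) q
    refine ⟨T', s ≫ s₁, epi_comp _ _, y ≫ biprod.inr, ?_⟩
    change _ = (y ≫ biprod.inr) ≫ biprod.desc _ _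
    simp [← reassoc_of% hy, hq₁, hq₂]

theorem quasiIso_π : QuasiIso (π P p φ) := by
  have hepi : ∀ m, Epi ((π P p φ).f m) := epi_π_f P p φ
  have : Epi (π P p φ) := HomologicalComplex.epi_of_epi_f _ hepi
  let S := ShortComplex.mk (kernel.ι (π P p φ)) (π P p φ) (kernel.condition _)
  have hS : S.ShortExact :=
    { exact := ShortComplex.exact_of_f_is_kernel S (kernelIsKernel _)
      mono_f := inferInstanceAs (Mono (kernel.ι (π P p φ)))
      epi_g := inferInstanceAs (Epi (π P p φ)) }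
  refine ⟨fun m => ?_⟩
  rw [quasiIsoAt_iff_isIso_homologyMap]
  have hac : (kernel (π P p φ)).ExactAt m := by
    rw [HomologicalComplex.exactAt_iff' _ (m + 1) m (m - 1) (by simp) (by cases m <;> simp),
      ShortComplex.exact_iff_exact_up_to_refinements]
    intro T z hz
    change T ⟶ (kernel (π P p φ)).X m at z
    have hzd : z ≫ (kernel (π P p φ)).d m (m - 1) = 0 := hz
    let z' : T ⟶ (stage P p φ m).X := z ≫ (kernel.ι (π P p φ)).f m
    have hz' : z' ≫ (stage P p φ m).e = 0 := cycle_e P p φ m z' (by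
      have hc := (kernel.ι (π P p φ)).comm m (m - 1)
      exact (Category.assoc _ _ _).trans ((congrArg (z ≫ ·) hc).trans
        ((Category.assoc _ _ _).symm.trans ((congrArg (· ≫ _) hzd).trans zero_comp))))
    have hzπ : z' ≫ (stage P p φ m).π = 0 := by
      have hc : (kernel.ι (π P p φ)).f m ≫ (π P p φ).f m = 0 := by
        rw [← HomologicalComplex.comp_f, kernel.condition, HomologicalComplex.zero_f]
      exact (Category.assoc _ _ _).trans ((congrArg (z ≫ ·) hc).trans comp_zero)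
    obtain ⟨q, hq₁, hq₂⟩ : ∃ q : T ⟶ pullback (kernel.ι (stage P p φ m).e ≫ (stage P p φ m).π) (H.d (m + 1) m),
        q ≫ pullback.fst _ _ = (kernel.lift _ z' hz') ∧ q ≫ pullback.snd _ _ = 0 :=
      ⟨pullback.lift (kernel.lift _ z' hz') 0 (by simp [hzπ]), pullback.lift_fst _ _ _, pullback.lift_snd _ _ _⟩
    obtain ⟨T', s, hs, y, hy⟩ := surjective_up_to_refinements_of_epi (p _) q
    let w : T' ⟶ (cx P p φ).X (m + 1) := (y ≫ biprod.inr : T' ⟶ (stage P p φ (m + 1)).X)
    have hw : w ≫ (π P p φ).f (m + 1) = 0 := by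
      change (y ≫ biprod.inr) ≫ biprod.desc _ _ = 0
      simp [← reassoc_of% hy, hq₁, hq₂]
    have hlim : IsLimit ((HomologicalComplex.eval A (ComplexShape.down ℕ) (m + 1)).mapCone
        (KernelFork.ofι _ (kernel.condition (π P p φ)))) :=
      isLimitOfPreserves _ (kernelIsKernel (π P p φ))
    obtain ⟨v, hv⟩ : { v : T' ⟶ (kernel (π P p φ)).X (m + 1) //
        v ≫ (kernel.ι (π P p φ)).f (m + 1) = w } :=
      KernelFork.IsLimit.lift' (KernelFork.isLimitMapConeEquiv _ _ hlim) w hw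
    refine ⟨T', s, hs, v, ?_⟩
    have hmono : Mono ((kernel.ι (π P p φ)).f m) := inferInstance
    change s ≫ z = v ≫ (kernel (π P p φ)).d (m + 1) m
    refine hmono.right_cancellation _ _ ?_
    change (s ≫ z) ≫ (kernel.ι (π P p φ)).f m =
      (v ≫ (kernel (π P p φ)).d (m + 1) m) ≫ (kernel.ι (π P p φ)).f m
    rw [Category.assoc, Category.assoc, ← (kernel.ι (π P p φ)).comm]
    refine Eq.trans ?_ (Category.assoc _ _ _)
    have hv' : v ≫ (kernel.ι (π P p φ)).f (m + 1) = w := hv
    rw [hv', cx_d]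
    change s ≫ z' = (y ≫ biprod.inr) ≫ (biprod.desc _ _ : _ ⊞ _ ⟶ kernel (stage P p φ m).e) ≫ _
    simp [← reassoc_of% hy]
    rw [← Category.assoc q, hq₁]
    exact congrArg (s ≫ ·) (kernel.lift_ι _ _ _).symm
  have hmono : Mono (HomologicalComplex.homologyMap (π P p φ) m) :=
    (hS.homology_exact₂ m).mono_g
      (((HomologicalComplex.exactAt_iff_isZero_homology _ m).1 hac).eq_of_src _ _)
  have hepic : Epi (HomologicalComplex.cyclesMap (π P p φ) m) := by
    rw [epi_iff_surjective_up_to_refinements]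
    intro T c
    have hnext : (ComplexShape.down ℕ).next m = m - 1 := by cases m <;> simp
    obtain ⟨T', s, hs, x, hx, hxπ⟩ := exists_cycle P p φ m (c ≫ H.iCycles m) (by simp)
    refine ⟨T', s, hs, (cx P p φ).liftCycles x (m - 1) hnext (cx_cycle P p φ m x hx), ?_⟩
    rw [← cancel_mono (H.iCycles m), Category.assoc, Category.assoc,
      HomologicalComplex.cyclesMap_i, HomologicalComplex.liftCycles_i_assoc]
    exact hxπ.symm
  have hepi' : Epi (HomologicalComplex.homologyMap (π P p φ) m) := by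
    have h : Epi ((cx P p φ).homologyπ m ≫ HomologicalComplex.homologyMap (π P p φ) m) := by
      rw [HomologicalComplex.homologyπ_naturality]
      exact epi_comp _ _
    exact @epi_of_epi _ _ _ _ _ _ _ h
  exact isIso_of_mono_of_epi _

end Groth.Agent.ModFlat.CplxRes
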