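import Groth.Agent.ModFlat.Over
import Mathlib.LinearAlgebra.DirectSum.TensorProduct

/-!
# The presheaf extension by zero `V ↦ ⨁_{φ : V ⟶ U} G(φ)`
-/

set_option autoImplicit false

universe u

open CategoryTheory CategoryTheory.Limits MonoidalCategory Opposite
open scoped DirectSum TensorProduct

attribute [local instance] Classical.decEq

namespace Groth.Agent.ModFlat.Over

variable {C : Type u} [SmallCategory C] {J : GrothendieckTopology C} (O : Sheaf J CommRingCat.{u}) (U : C)

open ModSite

variable (G : preMod (O.over U))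

/-- The summand at `φ : V ⟶ U`. -/
def fib (V : Cᵒᵖ) (φ : V.unop ⟶ U) : ModuleCat.{u} (O.obj.obj V) :=
  G.obj (op (CategoryTheory.Over.mk φ))

/-- The sections over `V` of the extension by zero. -/
noncomputable abbrev extSum (V : Cᵒᵖ) : ModuleCat.{u} (O.obj.obj V) :=
  ModuleCat.of (O.obj.obj V) (⨁ φ : V.unop ⟶ U, fib O U G V φ)

/-- Inclusion of a summand. -/
noncomputable def incl (V : Cᵒᵖ) (φ : V.unop ⟶ U) (m : G.obj (op (CategoryTheory.Over.mk φ))) :
    extSum O U G V :=
  DirectSum.of (fun ψ => ↑(fib O U G V ψ)) φ m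

theorem incl_congr {V : Cᵒᵖ} {Y : CategoryTheory.Over U} (m : G.obj (op Y))
    {φ₁ φ₂ : V.unop ⟶ U} (a : CategoryTheory.Over.mk φ₁ ⟶ Y) (b : CategoryTheory.Over.mk φ₂ ⟶ Y)
    (h : a.left = b.left) :
    incl O U G V φ₁ (G.map a.op m) = incl O U G V φ₂ (G.map b.op m) := by
  obtain rfl : φ₁ = φ₂ := by
    have h₁ : a.left ≫ Y.hom = φ₁ := CategoryTheory.Over.w a
    have h₂ : b.left ≫ Y.hom = φ₂ := CategoryTheory.Over.w b
    rw [← h₁, h, h₂]
  obtain rfl : a = b := CategoryTheory.Over.OverMorphism.ext h
  rfl

/-- The restriction map on summands. -/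
noncomputable def extMap {V W : Cᵒᵖ} (f : V ⟶ W) :
    (extSum O U G V) →ₛₗ[(O.obj.map f).hom] extSum O U G W :=
  { toFun := DirectSum.toAddMonoid fun φ =>
      AddMonoidHom.mk' (fun m : fib O U G V φ => incl O U G W (f.unop ≫ φ)
          (G.map (CategoryTheory.Over.homMk f.unop rfl :
            CategoryTheory.Over.mk (f.unop ≫ φ) ⟶ CategoryTheory.Over.mk φ).op m))
        (fun a b => by
          erw [map_add]
          exact map_add (DirectSum.of (fun ψ => ↑(fib O U G W ψ)) _) _ _)
    map_add' := map_add _
    map_smul' := fun r x => by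
      induction x using DirectSum.induction_on with
      | zero => simp
      | of φ m =>
        rw [← DirectSum.lof_eq_of (O.obj.obj V), ← map_smul]
        simp only [DirectSum.lof_eq_of, DirectSum.toAddMonoid_of]
        change incl O U G W _ _ = _
        erw [PresheafOfModules.map_smul]
        exact map_smul (DirectSum.lof (O.obj.obj W) _ (fun ψ => ↑(fib O U G W ψ)) _) _ _
      | add a b ha hb => rw [smul_add, map_add, map_add, smul_add, ha, hb] }

theorem extMap_incl {V W : Cᵒᵖ} (f : V ⟶ W) (φ : V.unop ⟶ U)
    (m : G.obj (op (CategoryTheory.Over.mk φ))) :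
    extMap O U G f (incl O U G V φ m) = incl O U G W (f.unop ≫ φ)
      (G.map (CategoryTheory.Over.homMk f.unop rfl :
        CategoryTheory.Over.mk (f.unop ≫ φ) ⟶ CategoryTheory.Over.mk φ).op m) := by
  unfold extMap incl
  simp only [LinearMap.coe_mk, AddHom.coe_mk]
  exact DirectSum.toAddMonoid_of (γ := (extSum O U G W : Type u)) (β := fun ψ => ↑(fib O U G V ψ)) _ φ (m : fib O U G V φ)

theorem hom_ext_incl {V : Cᵒᵖ} {M : Type*} [AddZeroClass M]
    {f g : (extSum O U G V) →+ M}
    (h : ∀ φ m, f (incl O U G V φ m) = g (incl O U G V φ m)) : f = g :=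
  DirectSum.addHom_ext h

/-- Extension by zero of presheaves of modules. -/
noncomputable def extObj : preMod O where
  obj V := extSum O U G V
  map {V W} f := ModuleCat.ofHom
    (X := extSum O U G V)
    (Y := (ModuleCat.restrictScalars (O.obj.map f).hom).obj (extSum O U G W))
    { toFun := extMap O U G f
      map_add' := map_add _
      map_smul' := fun r x => (extMap O U G f).map_smulₛₗ r x }
  map_id V := by
    ext1
    refine LinearMap.toAddMonoidHom_injective (hom_ext_incl O U G fun φ m => ?_)
    refine (extMap_incl O U G _ φ m).trans ?_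
    refine (incl_congr O U G (Y := CategoryTheory.Over.mk φ) m
      (φ₁ := (𝟙 V : V ⟶ V).unop ≫ φ) (φ₂ := φ)
      (CategoryTheory.Over.homMk (𝟙 V : V ⟶ V).unop rfl) (𝟙 _) rfl).trans ?_
    rw [op_id, PresheafOfModules.map_id]
    rfl
  map_comp {V W X} f g := by
    ext1
    refine LinearMap.toAddMonoidHom_injective (hom_ext_incl O U G fun φ m => ?_)
    refine (extMap_incl O U G _ φ m).trans ?_
    refine Eq.trans ?_ (((congrArg (extMap O U G g) (extMap_incl O U G f φ m))).trans
      (extMap_incl O U G g _ _)).symm
    rw [← PresheafOfModules.map_comp_apply, ← op_comp]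
    exact incl_congr O U G (Y := CategoryTheory.Over.mk φ) m _ _ (by simp)

theorem extObj_map_incl {V W : Cᵒᵖ} (f : V ⟶ W) (φ : V.unop ⟶ U)
    (m : G.obj (op (CategoryTheory.Over.mk φ))) :
    (extObj O U G).map f (incl O U G V φ m) = incl O U G W (f.unop ≫ φ)
      (G.map (CategoryTheory.Over.homMk f.unop rfl :
        CategoryTheory.Over.mk (f.unop ≫ φ) ⟶ CategoryTheory.Over.mk φ).op m) :=
  extMap_incl O U G f φ m

theorem extObj_hom_ext {P : preMod O} {f g : extObj O U G ⟶ P}
    (h : ∀ V φ m, f.app V (incl O U G V φ m) = g.app V (incl O U G V φ m)) : f = g := by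
  refine PresheafOfModules.hom_ext fun V => ModuleCat.hom_ext ?_
  exact LinearMap.toAddMonoidHom_injective (hom_ext_incl O U G (h V))

variable {G}

/-- Sections on a summand. -/
noncomputable def toFib (P : preMod O) (h : G ⟶ (resPre O U).obj P) (V : Cᵒᵖ) (φ : V.unop ⟶ U) :
    fib O U G V φ →ₗ[O.obj.obj V] P.obj V where
  toFun m := h.app (op (CategoryTheory.Over.mk φ)) m
  map_add' := fun a b => (h.app (op (CategoryTheory.Over.mk φ))).hom.map_add a b
  map_smul' := fun r a => (h.app (op (CategoryTheory.Over.mk φ))).hom.map_smul r a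

/-- The map out of the extension by zero attached to a map into a restriction. -/
noncomputable def extLift (P : preMod O) (h : G ⟶ (resPre O U).obj P) : extObj O U G ⟶ P where
  app V := ModuleCat.ofHom (X := extSum O U G V)
    (DirectSum.toModule (O.obj.obj V) (V.unop ⟶ U) (P.obj V) (toFib O U P h V))
  naturality {V W} f := by
    ext1
    refine LinearMap.toAddMonoidHom_injective (hom_ext_incl O U G fun φ m => ?_)
    change DirectSum.toModule (O.obj.obj W) (W.unop ⟶ U) (P.obj W) (toFib O U P h W)
        ((extObj O U G).map f (incl O U G V φ m)) =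
      P.map f (DirectSum.toModule (O.obj.obj V) (V.unop ⟶ U) (P.obj V) (toFib O U P h V)
        (incl O U G V φ m))
    refine (congrArg _ (extObj_map_incl O U G f φ m)).trans ?_
    refine (DirectSum.toModule_lof (O.obj.obj W) (φ := toFib O U P h W) _ _).trans ?_
    refine Eq.trans ?_ (congrArg (P.map f)
      (DirectSum.toModule_lof (O.obj.obj V) (φ := toFib O U P h V) φ m)).symm
    exact PresheafOfModules.naturality_apply h _ m

theorem extLift_incl (P : preMod O) (h : G ⟶ (resPre O U).obj P) (V : Cᵒᵖ) (φ : V.unop ⟶ U)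
    (m : G.obj (op (CategoryTheory.Over.mk φ))) :
    (extLift O U P h).app V (incl O U G V φ m) = h.app (op (CategoryTheory.Over.mk φ)) m :=
  DirectSum.toModule_lof (O.obj.obj V) (φ := toFib O U P h V) φ m

variable (G)

/-- The unit: inclusion of the tautological summand. -/
noncomputable def extUnit : G ⟶ (resPre O U).obj (extObj O U G) where
  app Y := ModuleCat.ofHom (R := O.obj.obj (op Y.unop.left))
    (X := fib O U G (op Y.unop.left) Y.unop.hom) (Y := extSum O U G (op Y.unop.left))
    (DirectSum.lof (O.obj.obj (op Y.unop.left)) _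
      (fun ψ => ↑(fib O U G (op Y.unop.left) ψ)) Y.unop.hom)
  naturality {Y Z} g := by
    ext m
    change incl O U G (op Z.unop.left) Z.unop.hom (G.map g.unop.op m) =
      (extObj O U G).map g.unop.left.op (incl O U G (op Y.unop.left) Y.unop.hom m)
    rw [extObj_map_incl]
    exact incl_congr O U G (V := op Z.unop.left) (Y := Y.unop) m (φ₁ := Z.unop.hom)
      g.unop _ rfl

theorem extUnit_injective (Y : (CategoryTheory.Over U)ᵒᵖ) :
    Function.Injective ((extUnit O U G).app Y) :=
  DirectSum.of_injective (β := fun ψ => ↑(fib O U G (op Y.unop.left) ψ)) Y.unop.hom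

/-- Maps out of the extension by zero. -/
noncomputable def extEquiv (P : preMod O) : (extObj O U G ⟶ P) ≃ (G ⟶ (resPre O U).obj P) where
  toFun g := extUnit O U G ≫ (resPre O U).map g
  invFun h := extLift O U P h
  left_inv g := extObj_hom_ext O U G fun _ φ m => extLift_incl O U P _ _ φ m
  right_inv h := by
    ext Y m
    exact extLift_incl O U P h (op Y.unop.left) Y.unop.hom m

/-- Extension by zero as a functor. -/
noncomputable def extPre : preMod (O.over U) ⥤ preMod O where
  obj G := extObj O U G
  map {G H} a := extLift O U _ (a ≫ extUnit O U H)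
  map_id G := extObj_hom_ext O U G fun V φ m => extLift_incl O U _ _ V φ m
  map_comp {G H K} a b := extObj_hom_ext O U G fun V φ m => by
    refine (extLift_incl O U _ _ V φ m).trans ?_
    refine Eq.trans ?_ (congrArg ((extLift O U _ (b ≫ extUnit O U K)).app V)
      (extLift_incl O U _ (a ≫ extUnit O U H) V φ m)).symm
    exact (extLift_incl O U _ (b ≫ extUnit O U K) V φ _).symm

theorem extPre_map_incl {G H : preMod (O.over U)} (a : G ⟶ H) (V : Cᵒᵖ) (φ : V.unop ⟶ U)
    (m : G.obj (op (CategoryTheory.Over.mk φ))) :
    ((extPre O U).map a).app V (incl O U G V φ m) =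
      incl O U H V φ (a.app (op (CategoryTheory.Over.mk φ)) m) :=
  extLift_incl O U _ _ V φ m

/-- Extension by zero is left adjoint to restriction. -/
noncomputable def extPreAdj : extPre O U ⊣ resPre O U :=
  Adjunction.mkOfHomEquiv
    { homEquiv := fun G P => extEquiv O U G P
      homEquiv_naturality_left_symm := fun {G' G P} a h => extObj_hom_ext O U G' fun V φ m => by
        refine (extLift_incl O U P _ V φ m).trans ?_
        refine Eq.trans ?_ (congrArg ((extLift O U P h).app V) (extPre_map_incl O U a V φ m)).symm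
        exact (extLift_incl O U P h V φ _).symm
      homEquiv_naturality_right := fun {G P P'} g b => by
        change extUnit O U G ≫ (resPre O U).map (g ≫ b) = _
        rw [Functor.map_comp, ← Category.assoc]
        rfl }

theorem extPre_map_injective {G H : preMod (O.over U)} (a : G ⟶ H)
    (ha : ∀ Y, Function.Injective (a.app Y)) (V : Cᵒᵖ) :
    Function.Injective (((extPre O U).map a).app V) := by
  let t : ∀ φ : V.unop ⟶ U, fib O U G V φ →+ fib O U H V φ :=
    fun φ => AddMonoidHom.mk' (fun m => a.app (op (CategoryTheory.Over.mk φ)) m)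
      (fun x y => (a.app (op (CategoryTheory.Over.mk φ))).hom.map_add x y)
  have e : (((extPre O U).map a).app V).hom.toAddMonoidHom = DirectSum.map t :=
    hom_ext_incl O U G fun φ m => (extPre_map_incl O U a V φ m).trans (DirectSum.map_of t φ m).symm
  have hinj : Function.Injective (DirectSum.map t) :=
    (DirectSum.map_injective t).2 fun φ => ha _
  rw [← e] at hinj
  exact hinj

section Tensor

variable (G : preMod (O.over U)) (P : preMod O)

/-- The comparison map of the projection formula. -/
noncomputable def projMap : (extPre O U).obj (G ⊗ (resPre O U).obj P) ⟶ (extPre O U).obj G ⊗ P :=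
  extLift O U _ (extUnit O U G ▷ (resPre O U).obj P ≫ (resPreTensor O U (extObj O U G) P).inv)

theorem projMap_incl (V : Cᵒᵖ) (φ : V.unop ⟶ U) (m : G.obj (op (CategoryTheory.Over.mk φ)))
    (p : P.obj V) :
    (projMap O U G P).app V (incl O U (G ⊗ (resPre O U).obj P) V φ (m ⊗ₜ p)) =
      incl O U G V φ m ⊗ₜ p :=
  extLift_incl O U _ _ V φ _

theorem isIso_projMap_app (V : Cᵒᵖ) : IsIso ((projMap O U G P).app V) := by
  let R := O.obj.obj V
  let e : (⨁ φ : V.unop ⟶ U, fib O U G V φ ⊗[R] P.obj V) ≃ₗ[R]
      (extSum O U G V) ⊗[R] P.obj V :=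
    (TensorProduct.directSumLeft R R (fun φ => ↑(fib O U G V φ)) (P.obj V)).symm
  have h : ∀ x, ((projMap O U G P).app V) x = e x := by
    intro x
    induction x using DirectSum.induction_on with
    | zero => exact (map_zero _).trans (map_zero e).symm
    | of φ t =>
      revert t
      change ∀ t : fib O U G V φ ⊗[R] P.obj V,
        ((projMap O U G P).app V) (incl O U (G ⊗ (resPre O U).obj P) V φ t) =
          e (DirectSum.of (fun ψ => ↑(fib O U G V ψ) ⊗[R] P.obj V) φ t)
      intro t
      induction t using TensorProduct.induction_on with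
      | zero =>
        refine (congrArg ((projMap O U G P).app V)
          (map_zero (DirectSum.of (fun ψ => ↑(fib O U (G ⊗ (resPre O U).obj P) V ψ)) φ))).trans ?_
        rw [map_zero (DirectSum.of (fun ψ => ↑(fib O U G V ψ) ⊗[R] P.obj V) φ)]
        exact (map_zero _).trans (map_zero e).symm
      | tmul m p =>
        refine (projMap_incl O U G P V φ m p).trans ?_
        exact (TensorProduct.directSumLeft_symm_lof_tmul (R := R) (S := R)
          (M₁ := fun φ => ↑(fib O U G V φ)) φ m p).symm
      | add a b ha hb =>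
        refine (congrArg ((projMap O U G P).app V)
          (map_add (DirectSum.of (fun ψ => ↑(fib O U (G ⊗ (resPre O U).obj P) V ψ)) φ) a b)).trans ?_
        rw [map_add (DirectSum.of (fun ψ => ↑(fib O U G V ψ) ⊗[R] P.obj V) φ)]
        exact (map_add _ _ _).trans ((congr (congrArg _ ha) hb).trans (map_add e _ _).symm)
    | add a b ha hb => exact (map_add _ a b).trans ((congr (congrArg _ ha) hb).trans (map_add e a b).symm)
  refine (ConcreteCategory.isIso_iff_bijective _).2 ?_
  rw [show (⇑(ConcreteCategory.hom ((projMap O U G P).app V))) = ⇑e from funext h]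
  exact e.bijective

end Tensor

end Groth.Agent.ModFlat.Over
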