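import Groth.Agent.ModFlat.ExtPre
import Groth.Agent.KFlat.Tensor
import Mathlib.CategoryTheory.Adjunction.Restrict
import Mathlib.CategoryTheory.Adjunction.Unique
import Mathlib.Algebra.Homology.ShortComplex.ExactFunctor
import Mathlib.CategoryTheory.Abelian.Exact

/-!
# `j_{U!}` is exact, faithful, and satisfies the projection formula
-/

set_option autoImplicit false

universe u

open CategoryTheory CategoryTheory.Limits MonoidalCategory Opposite

namespace Groth.Agent.ModFlat.Over

variable {C : Type u} [SmallCategory C] {J : GrothendieckTopology C} (O : Sheaf J CommRingCat.{u}) (U : C)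

open ModSite Groth.Agent.KFlat

/-- Sheafified extension by zero of presheaves is left adjoint to restriction. -/
noncomputable def extShPreAdj : extPre O U ⋙ shPre O ⊣ toPre O ⋙ resPre O U :=
  (extPreAdj O U).comp (preAdj O)

/-- `j_{U!}` is the sheafification of the presheaf extension by zero. -/
noncomputable def extShAdj : toPre (O.over U) ⋙ extPre O U ⋙ shPre O ⊣ restr O U :=
  (extShPreAdj O U).restrictFullyFaithful (SheafOfModules.fullyFaithfulForget _)
    (Functor.FullyFaithful.id _) (Iso.refl _) (Iso.refl _)

/-- `j_{U!}` is the sheafification of the presheaf extension by zero. -/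
noncomputable def extShIso : toPre (O.over U) ⋙ extPre O U ⋙ shPre O ≅ extZero O U :=
  (extShAdj O U).leftAdjointUniq (extZeroAdj O U)

/-- `j_{U!}` of a sheafification is the sheafified presheaf extension by zero. -/
noncomputable def extPreShIso : extPre O U ⋙ shPre O ≅ shPre (O.over U) ⋙ extZero O U :=
  Adjunction.leftAdjointUniq (extShPreAdj O U)
    (((preAdj (O.over U)).comp (extZeroAdj O U)).ofNatIsoRight (Iso.refl _))

theorem extUnit_naturality {G H : preMod (O.over U)} (a : G ⟶ H) :
    extUnit O U G ≫ (resPre O U).map ((extPre O U).map a) = a ≫ extUnit O U H :=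
  (extEquiv O U G _).apply_symm_apply (a ≫ extUnit O U H)

theorem resPreTensor_inv_naturality {P P' : preMod O} (f : P ⟶ P') (Q : preMod O) :
    ((resPre O U).map f ▷ (resPre O U).obj Q) ≫ (resPreTensor O U P' Q).inv =
      (resPreTensor O U P Q).inv ≫ (resPre O U).map (f ▷ Q) := by
  rw [Iso.comp_inv_eq, Category.assoc, Iso.eq_inv_comp, ← tensorHom_id f Q,
    resPreTensor_naturality, CategoryTheory.Functor.map_id, tensorHom_id]

theorem homEquiv_symm_eq {G : preMod (O.over U)} {P : preMod O} (h : G ⟶ (resPre O U).obj P) :
    ((extPreAdj O U).homEquiv G P).symm h = extLift O U P h := by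
  unfold extPreAdj
  rw [Adjunction.mkOfHomEquiv_homEquiv]
  rfl

theorem projMap_naturality (P : preMod O) {G H : preMod (O.over U)} (a : G ⟶ H) :
    (extPre O U).map (a ▷ (resPre O U).obj P) ≫ projMap O U H P =
      projMap O U G P ≫ (extPre O U).map a ▷ P := by
  refine (congrArg ((extPre O U).map (a ▷ (resPre O U).obj P) ≫ ·)
    (homEquiv_symm_eq O U (extUnit O U H ▷ (resPre O U).obj P ≫
      (resPreTensor O U (extObj O U H) P).inv)).symm).trans ?_
  refine Eq.trans ?_ (congrArg (· ≫ (extPre O U).map a ▷ P)
    (homEquiv_symm_eq O U (extUnit O U G ▷ (resPre O U).obj P ≫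
      (resPreTensor O U (extObj O U G) P).inv)))
  refine ((extPreAdj O U).homEquiv_naturality_left_symm _ _).symm.trans ?_
  refine Eq.trans ?_ ((extPreAdj O U).homEquiv_naturality_right_symm
    (extUnit O U G ▷ (resPre O U).obj P ≫ (resPreTensor O U (extObj O U G) P).inv) _)
  refine congrArg ((extPreAdj O U).homEquiv _ _).symm ?_
  refine (Category.assoc _ _ _).symm.trans (Eq.trans ?_ (Category.assoc _ _ _).symm)
  refine Eq.trans ?_ (congrArg (extUnit O U G ▷ (resPre O U).obj P ≫ ·)
    (resPreTensor_inv_naturality O U ((extPre O U).map a) P))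
  refine Eq.trans ?_ (Category.assoc _ _ _)
  refine congrArg (· ≫ (resPreTensor O U (extObj O U H) P).inv) ?_
  rw [← comp_whiskerRight, ← extUnit_naturality]
  exact comp_whiskerRight _ _ _

instance isIso_projMap (G : preMod (O.over U)) (P : preMod O) : IsIso (projMap O U G P) := by
  have : IsIso ((PresheafOfModules.toPresheaf _).map (projMap O U G P)) := by
    have : ∀ V, IsIso (((PresheafOfModules.toPresheaf _).map (projMap O U G P)).app V) := fun V =>
      haveI := isIso_projMap_app O U G P V
      inferInstanceAs (IsIso ((forget₂ _ AddCommGrpCat).map ((projMap O U G P).app V)))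
    exact NatIso.isIso_of_isIso_app _
  exact isIso_of_reflects_iso _ (PresheafOfModules.toPresheaf _)

/-- The projection formula for presheaves, natural in the module on the localised site. -/
noncomputable def projNatIso (P : preMod O) :
    tensorRight ((resPre O U).obj P) ⋙ extPre O U ≅ extPre O U ⋙ tensorRight P :=
  NatIso.ofComponents (fun G => asIso (projMap O U G P)) (fun a => projMap_naturality O U P a)

/-- The projection formula `j_!(P ⊗ N|U) ≅ j_! P ⊗ N`, natural in `P`. -/
noncomputable def projection (N : ModSite.Mod O) :
    (tensorBi (O.over U)).flip.obj ((restr O U).obj N) ⋙ extZero O U ≅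
      extZero O U ⋙ (tensorBi O).flip.obj N :=
  Functor.isoWhiskerLeft (toPre (O.over U) ⋙ tensorRight ((resPre O U).obj ((toPre O).obj N)))
      (extPreShIso O U).symm ≪≫
    Functor.isoWhiskerLeft (toPre (O.over U))
      (Functor.isoWhiskerRight (projNatIso O U ((toPre O).obj N)) (shPre O)) ≪≫
    Functor.isoWhiskerLeft (toPre (O.over U) ⋙ extPre O U) (shPreCompTensorRight O N).symm ≪≫
    Functor.isoWhiskerRight (extShIso O U) ((tensorBi O).flip.obj N)

instance preservesMonomorphisms_extZero : (extZero O U).PreservesMonomorphisms := by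
  have hsh : PreservesFiniteLimits (shPre O) :=
    inferInstanceAs (PreservesFiniteLimits (PresheafOfModules.sheafification (𝟙 (ringSh O).obj)))
  have : (toPre (O.over U) ⋙ extPre O U ⋙ shPre O).PreservesMonomorphisms := ⟨fun {G H} a _ => by
    have h1 : Mono ((extPre O U).map ((toPre (O.over U)).map a)) :=
      PresheafOfModules.mono_of_injective fun V => extPre_map_injective O U _
        (fun Y => PresheafOfModules.injective_of_mono ((toPre (O.over U)).map a) Y) V
    exact (shPre O).map_mono _⟩
  exact Functor.PreservesMonomorphisms.of_iso (extShIso O U)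

theorem preservesFiniteLimits_extZero : PreservesFiniteLimits (extZero O U) := by
  have : (extZero O U).IsLeftAdjoint := (extZeroAdj O U).isLeftAdjoint
  have : PreservesBinaryBiproducts (extZero O U) :=
    preservesBinaryBiproducts_of_preservesBinaryCoproducts _
  have : (extZero O U).Additive := Functor.additive_of_preservesBinaryBiproducts _
  have : (extZero O U).PreservesHomology :=
    Functor.preservesHomology_of_preservesMonos_and_cokernels _
  exact Functor.preservesFiniteLimits_of_preservesHomology _

theorem mono_extShAdj_unit (G : ModSite.Mod (O.over U)) : Mono ((extShAdj O U).unit.app G) := by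
  have hsh : PreservesFiniteLimits (shPre (O.over U)) :=
    inferInstanceAs (PreservesFiniteLimits
      (PresheafOfModules.sheafification (𝟙 (ringSh (O.over U)).obj)))
  let P := (extPre O U).obj ((toPre (O.over U)).obj G)
  let η := (extPreAdj O U).unit.app ((toPre (O.over U)).obj G)
  let ρ := (resPre O U).map ((preAdj O).unit.app P)
  have he : (toPre (O.over U)).map ((extShAdj O U).unit.app G) = η ≫ ρ := by
    simp [extShAdj, extShPreAdj, η, ρ, P]
    exact congrArg (_ ≫ ·) (Category.comp_id _)
  have h₁ : Mono η := PresheafOfModules.mono_of_injective fun Y => by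
    refine fun a b hab => extUnit_injective O U _ Y ?_
    have e : ∀ c, (η.app Y) c = (extUnit O U ((toPre (O.over U)).obj G)).app Y c := fun c => by
      exact congrArg (fun k => (k.app Y) c)
        ((congrArg (extUnit O U ((toPre (O.over U)).obj G) ≫ ·) ((resPre O U).map_id _)).trans
          (Category.comp_id _))
    exact (e a).symm.trans (hab.trans (e b))
  have h₂ : Mono ((shPre (O.over U)).map η) := (shPre (O.over U)).map_mono _
  have h₃ : IsIso ((shPre (O.over U)).map ρ) :=
    Cocont.isIso_unit_map (F := CategoryTheory.Over.forget U) (J := J.over U) (K := J)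
      (R := ringSh O) (𝟙 ((ringSh O).over U)) P
  have h₄ : Mono ((shPre (O.over U)).map ((toPre (O.over U)).map ((extShAdj O U).unit.app G))) := by
    have e' : Mono ((shPre (O.over U)).map η ≫ (shPre (O.over U)).map ρ) :=
      mono_comp' h₂ inferInstance
    exact ((congrArg (shPre (O.over U)).map he).trans ((shPre (O.over U)).map_comp η ρ)).symm ▸ e'
  have := (asIso (preAdj (O.over U)).counit).hom.naturality ((extShAdj O U).unit.app G)
  have h₅ : Mono ((asIso (preAdj (O.over U)).counit).hom.app G ≫ (extShAdj O U).unit.app G) :=
    this ▸ mono_comp' h₄ inferInstance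
  have e : (extShAdj O U).unit.app G = (asIso (preAdj (O.over U)).counit).inv.app G ≫
      (asIso (preAdj (O.over U)).counit).hom.app G ≫ (extShAdj O U).unit.app G := by simp
  rw [e]
  exact mono_comp' inferInstance h₅

theorem faithful_extZero : (extZero O U).Faithful := by
  have : ∀ G, Mono ((extShAdj O U).unit.app G) := mono_extShAdj_unit O U
  have := (extShAdj O U).faithful_L_of_mono_unit_app
  exact Functor.Faithful.of_iso (extShIso O U)

end Groth.Agent.ModFlat.Over
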