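import Groth.Agent.ModFlat.KFlatCycles

/-!
# Bounded acyclic complexes of flat modules stay acyclic after tensoring
-/

set_option autoImplicit false

universe u

open CategoryTheory CategoryTheory.Limits ModSite
open Groth.Agent.KFlat

namespace Groth.Agent.ModFlat

section

variable {A : Type*} [Category A] [Abelian A] (M : ChainComplex A ℤ)

/-- `0 → Z_{k+1} → M_{k+1} → Z_k → 0`. -/
noncomputable def cycSeq (k : ℤ) : ShortComplex A :=
  ShortComplex.mk (M.iCycles (k + 1))
    (M.liftCycles (M.d (k + 1) k) (k - 1) (by simp) (M.d_comp_d _ _ _)) (by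
      rw [← cancel_mono (M.iCycles k), Category.assoc, M.liftCycles_i, M.iCycles_d, zero_comp])

theorem cycSeq_shortExact (hM : M.Acyclic) (k : ℤ) : (cycSeq M k).ShortExact where
  mono_f := inferInstanceAs (Mono (M.iCycles (k + 1)))
  epi_g := by
    rw [epi_iff_surjective_up_to_refinements]
    intro W z
    change W ⟶ M.cycles k at z
    obtain ⟨W', s, hs, y, hy⟩ := ((M.exactAt_iff' (k + 1) k (k - 1) (by simp) (by simp)).1
      (hM k)).exact_up_to_refinements (z ≫ M.iCycles k)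
      (((Category.assoc _ _ _).trans (congrArg (z ≫ ·) (M.iCycles_d k (k - 1)))).trans comp_zero)
    change W' ⟶ M.X (k + 1) at y
    refine ⟨W', s, hs, y, ?_⟩
    change s ≫ z = y ≫ M.liftCycles (M.d (k + 1) k) (k - 1) (by simp) (M.d_comp_d _ _ _)
    rw [← cancel_mono (M.iCycles k), Category.assoc, Category.assoc, M.liftCycles_i]
    exact hy
  exact := by
    rw [ShortComplex.exact_iff_exact_up_to_refinements]
    intro W x hx
    change W ⟶ M.X (k + 1) at x
    change x ≫ M.liftCycles (M.d (k + 1) k) (k - 1) (by simp) (M.d_comp_d _ _ _) = 0 at hx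
    have hxd : x ≫ M.d (k + 1) k = 0 := by
      rw [← M.liftCycles_i (M.d (k + 1) k) (k - 1) (by simp) (M.d_comp_d _ _ _), reassoc_of% hx,
        zero_comp]
    refine ⟨W, 𝟙 W, inferInstance, M.liftCycles x k (by simp) hxd, ?_⟩
    exact (Category.id_comp x).trans (M.liftCycles_i _ _ _ _).symm

theorem acyclic_map_of_cycSeq {B : Type*} [Category B] [Abelian B] (T : A ⥤ B) [T.Additive]
    (h : ∀ k, ((cycSeq M k).map T).ShortExact) :
    ((T.mapHomologicalComplex (ComplexShape.down ℤ)).obj M).Acyclic := by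
  intro i
  obtain ⟨k, rfl⟩ : ∃ k, k + 1 = i := ⟨i - 1, by omega⟩
  rw [HomologicalComplex.exactAt_iff' _ (k + 1 + 1) (k + 1) k (by simp) (by simp),
    ShortComplex.exact_iff_exact_up_to_refinements]
  intro W y hy
  change W ⟶ T.obj (M.X (k + 1)) at y
  change y ≫ T.map (M.d (k + 1) k) = 0 at hy
  have := (h k).mono_f
  have hm : Mono (T.map (M.iCycles k)) := by
    obtain ⟨j, rfl⟩ : ∃ j, j + 1 = k := ⟨k - 1, by omega⟩
    exact (h j).mono_f
  have hy' : y ≫ ((cycSeq M k).map T).g = 0 := by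
    change y ≫ T.map (M.liftCycles (M.d (k + 1) k) (k - 1) (by simp) (M.d_comp_d _ _ _)) = 0
    rw [← cancel_mono (T.map (M.iCycles k)), Category.assoc, ← T.map_comp, M.liftCycles_i, hy,
      zero_comp]
  obtain ⟨W', s, hs, w, hw⟩ := (h k).exact.exact_up_to_refinements y hy'
  change W' ⟶ T.obj (M.cycles (k + 1)) at w
  change s ≫ y = w ≫ T.map (M.iCycles (k + 1)) at hw
  have : Epi (T.map (M.liftCycles (M.d (k + 1 + 1) (k + 1)) (k + 1 - 1) (by simp)
      (M.d_comp_d _ _ _))) := (h (k + 1)).epi_g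
  obtain ⟨W'', s', hs', v, hv⟩ := surjective_up_to_refinements_of_epi
    (T.map (M.liftCycles (M.d (k + 1 + 1) (k + 1)) (k + 1 - 1) _ (M.d_comp_d _ _ _))) w
  refine ⟨W'', s' ≫ s, epi_comp _ _, v, ?_⟩
  change (s' ≫ s) ≫ y = v ≫ T.map (M.d (k + 1 + 1) (k + 1))
  rw [Category.assoc, hw, reassoc_of% hv, ← T.map_comp, M.liftCycles_i]

end

variable {C : Type u} [SmallCategory C] {J : GrothendieckTopology C} {O : Sheaf J CommRingCat.{u}}

theorem tensorMono_of_isZero {F : Mod O} (h : IsZero F) : TensorMono F :=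
  ⟨fun {_ _} _ _ => ⟨fun _ _ _ =>
    (Functor.map_isZero ((tensorBi O).obj _) h).eq_of_tgt _ _⟩⟩

theorem tensorMono_chainCycles {M : ChainComplex (Mod O) ℤ} (i₀ : ℤ)
    (hb : ∀ i, i < i₀ → IsZero (M.X i)) (hM : ∀ i, TensorMono (M.X i)) (hac : M.Acyclic) :
    ∀ i, TensorMono (M.cycles i) := by
  have hz : ∀ i, i < i₀ → TensorMono (M.cycles i) := fun i hi =>
    tensorMono_of_isZero ((hb i hi).of_mono (M.iCycles i))
  suffices ∀ (n : ℕ) (i : ℤ), i ≤ i₀ - 1 + (n : ℤ) → TensorMono (M.cycles i) from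
    fun i => this (i - i₀ + 1).toNat i (by omega)
  intro n
  induction n with
  | zero => exact fun i hi => hz i (by omega)
  | succ n ih =>
    intro i hi
    obtain ⟨k, rfl⟩ : ∃ k, k + 1 = i := ⟨i - 1, by omega⟩
    exact tensorMono_left (cycSeq M k) (cycSeq_shortExact M hac k) (hM (k + 1)) (ih k (by omega))

theorem acyclic_map_flip {M : ChainComplex (Mod O) ℤ} (i₀ : ℤ)
    (hb : ∀ i, i < i₀ → IsZero (M.X i)) (hM : ∀ i, TensorMono (M.X i)) (hac : M.Acyclic) (F : Mod O) :
    ((((tensorBi O).flip.obj F).mapHomologicalComplex (ComplexShape.down ℤ)).obj M).Acyclic :=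
  acyclic_map_of_cycSeq M _ fun k => shortExact_map_flip (cycSeq M k) (cycSeq_shortExact M hac k)
    (tensorMono_chainCycles i₀ hb hM hac k) F

end Groth.Agent.ModFlat
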