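import Groth.Agent.ModShf.ToSheaf
import Groth.Agent.KFlat.Flat
import Mathlib.CategoryTheory.Sites.EpiMono

/-!
# Exactness after sheafification, sectionwise
-/

set_option autoImplicit false

universe u

open CategoryTheory CategoryTheory.Limits Opposite ModSite
open Groth.Agent.KFlat

namespace Groth.Agent.ModFlat

variable {C : Type u} [SmallCategory C] {J : GrothendieckTopology C} {O : Sheaf J CommRingCat.{u}}

instance faithful_toSheaf_Mod : (SheafOfModules.toSheaf.{u} (ringSh O)).Faithful := inferInstance

/-- Sheafification of a locally injective map is a monomorphism. -/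
theorem mono_shPre_map {P Q : preMod O} (k : P ⟶ Q)
    (h : Presheaf.IsLocallyInjective J ((PresheafOfModules.toPresheaf _).map k)) :
    Mono ((shPre O).map k) := by
  refine (SheafOfModules.toSheaf.{u} (ringSh O)).mono_of_mono_map ?_
  have : Sheaf.IsLocallyInjective ((presheafToSheaf J AddCommGrpCat.{u}).map
      ((PresheafOfModules.toPresheaf _).map k)) :=
    (Presheaf.isLocallyInjective_presheafToSheaf_map_iff (J := J) ((PresheafOfModules.toPresheaf _).map k)).2 h
  exact Sheaf.mono_of_isLocallyInjective
    ((presheafToSheaf J AddCommGrpCat.{u}).map ((PresheafOfModules.toPresheaf _).map k))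

/-- An epimorphism after sheafification is locally surjective. -/
theorem isLocallySurjective_of_epi_shPre {P Q : preMod O} (k : P ⟶ Q) [Epi ((shPre O).map k)] :
    Presheaf.IsLocallySurjective J ((PresheafOfModules.toPresheaf _).map k) := by
  refine (Presheaf.isLocallySurjective_presheafToSheaf_map_iff (J := J) ((PresheafOfModules.toPresheaf _).map k)).1 ?_
  have : Epi ((presheafToSheaf J AddCommGrpCat.{u}).map ((PresheafOfModules.toPresheaf _).map k)) :=
    (SheafOfModules.toSheaf.{u} (ringSh O)).map_epi ((shPre O).map k)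
  exact (Sheaf.isLocallySurjective_iff_epi' AddCommGrpCat.{u} _).2 this

/-- A section killed by `g` is locally in the image of `f` when sheafification of `(f, g)` is exact. -/
theorem exists_local_preimage {S : ShortComplex (preMod O)} (h : (S.map (shPre O)).Exact) {U : C}
    (z : S.X₂.obj (op U)) (hz : S.g.app (op U) z = 0) :
    ∃ Sv ∈ J U, ∀ ⦃V : C⦄ (g : V ⟶ U), Sv g →
      ∃ w : S.X₁.obj (op V), S.f.app (op V) w = S.X₂.map g.op z := by
  have : PreservesFiniteLimits (shPre O) :=
    inferInstanceAs (PreservesFiniteLimits (PresheafOfModules.sheafification (𝟙 (ringSh O).obj)))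
  let k : S.X₁ ⟶ kernel S.g := kernel.lift S.g S.f S.zero
  have hk : kernel.lift ((shPre O).map S.g) ((shPre O).map S.f) (S.map (shPre O)).zero =
      (shPre O).map k ≫ (PreservesKernel.iso (shPre O) S.g).hom := by
    rw [← cancel_mono (kernel.ι ((shPre O).map S.g)), Category.assoc, PreservesKernel.iso_hom,
      kernelComparison_comp_ι, ← Functor.map_comp, kernel.lift_ι, kernel.lift_ι]
  have : Epi ((shPre O).map k) := by
    have h₁ : Epi (kernel.lift ((shPre O).map S.g) ((shPre O).map S.f) (S.map (shPre O)).zero) :=
      (S.map (shPre O)).exact_iff_epi_kernel_lift.1 h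
    rw [hk] at h₁
    haveI := h₁
    have h₂ : (shPre O).map k = ((shPre O).map k ≫ (PreservesKernel.iso (shPre O) S.g).hom) ≫
        (PreservesKernel.iso (shPre O) S.g).inv := by rw [Category.assoc, Iso.hom_inv_id, Category.comp_id]
    rw [h₂]
    exact epi_comp _ _
  have hs := isLocallySurjective_of_epi_shPre k
  let e : (PresheafOfModules.free _).obj (yoneda.obj U) ⟶ S.X₂ :=
    PresheafOfModules.freeYonedaEquiv.symm z
  have he : e ≫ S.g = 0 := by
    apply PresheafOfModules.freeYonedaEquiv.injective
    rw [PresheafOfModules.freeYonedaEquiv_comp, Equiv.apply_symm_apply, hz]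
    rfl
  let z' : (kernel S.g).obj (op U) := PresheafOfModules.freeYonedaEquiv (kernel.lift S.g e he)
  have hz' : (kernel.ι S.g).app (op U) z' = z := by
    rw [← PresheafOfModules.freeYonedaEquiv_comp, kernel.lift_ι, Equiv.apply_symm_apply]
  refine ⟨Presheaf.imageSieve ((PresheafOfModules.toPresheaf _).map k) z', hs.imageSieve_mem z', ?_⟩
  rintro V g ⟨w, hw⟩
  refine ⟨w, ?_⟩
  have h₁ : (kernel.ι S.g).app (op V) (k.app (op V) w) = S.f.app (op V) w := by
    change ((k ≫ kernel.ι S.g).app (op V)) w = _
    rw [kernel.lift_ι]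
  rw [← h₁, ← hz']
  exact (congrArg ((kernel.ι S.g).app (op V)) hw).trans
    (PresheafOfModules.naturality_apply (kernel.ι S.g) g.op z')

end Groth.Agent.ModFlat
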