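import Groth.Agent.KFlat.Flat
import Groth.Agent.ModFlat.Cocont
import Mathlib.Algebra.Category.ModuleCat.Presheaf.PushforwardZeroMonoidal

/-!
# Restriction to a localised site commutes with the tensor product
-/

set_option autoImplicit false

universe u

open CategoryTheory CategoryTheory.Limits MonoidalCategory Opposite

namespace Groth.Agent.ModFlat.Over

variable {C : Type u} [SmallCategory C] {J : GrothendieckTopology C} (O : Sheaf J CommRingCat.{u}) (U : C)

open ModSite

/-- Restriction of presheaves of modules to `C/U`. -/
noncomputable def resPre : preMod O ⥤ preMod (O.over U) :=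
  Cocont.restPre (F := CategoryTheory.Over.forget U) (J := J.over U) (K := J) (R := ringSh O)
    (𝟙 ((ringSh O).over U))

/-- Restriction commutes with the presheaf tensor product. -/
noncomputable def resPreTensor (P Q : preMod O) :
    (resPre O U).obj (P ⊗ Q) ≅ (resPre O U).obj P ⊗ (resPre O U).obj Q :=
  PresheafOfModules.isoMk (fun _ => Iso.refl _)
    (fun V _ _ => ModuleCat.MonoidalCategory.tensor_ext (R := ((O.over U).obj.obj V)) fun _ _ => rfl)

theorem resPreTensor_naturality {P P' Q Q' : preMod O} (f : P ⟶ P') (g : Q ⟶ Q') :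
    (resPre O U).map (f ⊗ₘ g) ≫ (resPreTensor O U P' Q').hom =
      (resPreTensor O U P Q).hom ≫ ((resPre O U).map f ⊗ₘ (resPre O U).map g) := by
  ext1 V
  exact ModuleCat.MonoidalCategory.tensor_ext (R := ((O.over U).obj.obj V)) fun _ _ => rfl

/-- Sheafification commutes with restriction. -/
noncomputable def resShIso : resPre O U ⋙ shPre (O.over U) ≅ shPre O ⋙ restr O U :=
  Cocont.restSheafifyIso (F := CategoryTheory.Over.forget U) (J := J.over U) (K := J)
    (R := ringSh O) (𝟙 ((ringSh O).over U))

/-- Restriction commutes with the tensor product of sheaves of modules. -/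
noncomputable def restrTensor (M N : ModSite.Mod O) :
    (restr O U).obj (((tensorBi O).obj M).obj N) ≅
      ((tensorBi (O.over U)).obj ((restr O U).obj M)).obj ((restr O U).obj N) :=
  ((resShIso O U).app ((toPre O).obj M ⊗ (toPre O).obj N)).symm ≪≫
    (shPre (O.over U)).mapIso (resPreTensor O U ((toPre O).obj M) ((toPre O).obj N))

/-- Restriction commutes with tensoring on the right. -/
noncomputable def restrTensorRight (N : ModSite.Mod O) :
    (tensorBi O).flip.obj N ⋙ restr O U ≅
      restr O U ⋙ (tensorBi (O.over U)).flip.obj ((restr O U).obj N) :=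
  NatIso.ofComponents (fun M => restrTensor O U M N) (fun {M M'} g => by
    let t := (toPre O).map g
    let n := (toPre O).obj N
    have h₁ := (resShIso O U).inv.naturality (t ⊗ₘ 𝟙 n)
    have h₂ := resPreTensor_naturality O U t (𝟙 n)
    change (restr O U).map ((shPre O).map (t ▷ n)) ≫ _ =
      (_ ≫ (shPre (O.over U)).map _) ≫ (shPre (O.over U)).map ((resPre O U).map t ▷ _)
    rw [← tensorHom_id t n, ← tensorHom_id ((resPre O U).map t)]
    rw [CategoryTheory.Functor.map_id] at h₂
    refine (Category.assoc _ _ _).symm.trans ((congrArg (· ≫ _) h₁).trans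
      ((Category.assoc _ _ _).trans (Eq.trans ?_ (Category.assoc _ _ _).symm)))
    refine congrArg (_ ≫ ·) ?_
    exact ((shPre (O.over U)).map_comp _ _).symm.trans
      ((congrArg _ h₂).trans ((shPre (O.over U)).map_comp _ _)))

instance preservesColimitsOfSize_restr : PreservesColimitsOfSize.{u, u} (restr O U) :=
  ⟨fun {I} _ => Cocont.preservesColimitsOfShape_pushforward (F := CategoryTheory.Over.forget U)
    (J := J.over U) (K := J) (R := ringSh O) (𝟙 ((ringSh O).over U)) I⟩

end Groth.Agent.ModFlat.Over
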