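import Groth.Agent.ModFlat.ExtZero
import Groth.Agent.ModFlat.Basic

/-!
# Flatness and the localised site
-/

set_option autoImplicit false

universe u

open CategoryTheory CategoryTheory.Limits MonoidalCategory Opposite
open scoped DirectSum

namespace Groth.Agent.ModFlat.Over

variable {C : Type u} [SmallCategory C] {J : GrothendieckTopology C} {O : Sheaf J CommRingCat.{u}} {U : C}

open ModSite Groth.Agent.KFlat

/-- A quotient of a flat module by a submodule which stays a submodule after tensoring is flat. -/
theorem tensorMono_right {S : ShortComplex (ModSite.Mod O)} (hS : S.ShortExact)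
    (h₂ : TensorMono S.X₂) (h : ∀ N, Mono (((tensorBi O).obj N).map S.f)) : TensorMono S.X₃ := by
  refine ⟨fun {M N} φ _ => ?_⟩
  let π := cokernel.π φ
  have hepi := hS.epi_g
  have hcol : ∀ X : ModSite.Mod O,
      IsColimit (CokernelCofork.ofπ (f := ((tensorBi O).flip.obj X).map φ) (((tensorBi O).flip.obj X).map π)
        (by rw [← Functor.map_comp, cokernel.condition, Functor.map_zero])) := fun X =>
    CokernelCofork.mapIsColimit _ (cokernelIsCokernel φ) ((tensorBi O).flip.obj X)
  let v₁₂ := S.mapNatTrans ((tensorBi O).map φ)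
  let v₂₃ := S.mapNatTrans ((tensorBi O).map π)
  have w : v₁₂ ≫ v₂₃ = 0 := by
    refine ShortComplex.hom_ext _ _ ?_ ?_ ?_ <;>
      exact ((((tensorBi O).flip.obj _).map_comp φ π).symm.trans
        ((congrArg _ (cokernel.condition φ)).trans (Functor.map_zero _ _ _)))
  have hrex : ∀ X : ModSite.Mod O, (S.map ((tensorBi O).obj X)).Exact := fun X =>
    hS.exact.map_of_epi_of_preservesCokernel _ hepi inferInstance
  let snk : ShortComplex.SnakeInput (ModSite.Mod O) :=
    { L₀ := kernel v₁₂
      L₁ := S.map ((tensorBi O).obj M)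
      L₂ := S.map ((tensorBi O).obj N)
      L₃ := S.map ((tensorBi O).obj (cokernel φ))
      v₀₁ := kernel.ι v₁₂
      v₁₂ := v₁₂
      v₂₃ := v₂₃
      w₀₂ := kernel.condition _
      w₁₃ := w
      h₀ := kernelIsKernel _
      h₃ := ShortComplex.isColimitOfIsColimitπ _
        ((CokernelCofork.isColimitMapCoconeEquiv _ _).symm (hcol S.X₁))
        ((CokernelCofork.isColimitMapCoconeEquiv _ _).symm (hcol S.X₂))
        ((CokernelCofork.isColimitMapCoconeEquiv _ _).symm (hcol S.X₃))
      L₁_exact := hrex _
      epi_L₁_g := inferInstanceAs (Epi (((tensorBi O).obj M).map S.g))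
      L₂_exact := hrex _
      mono_L₂_f := h N }
  have h3 : Mono snk.L₃.f := h (cokernel φ)
  have hδ : snk.δ = 0 := zero_of_comp_mono snk.L₃.f snk.δ_L₃_f
  have hep : Epi snk.L₀.g := snk.L₁'_exact.epi_f hδ
  have hz2 : IsZero snk.L₀.X₂ := by
    have : Mono snk.v₁₂.τ₂ := h₂.preserves φ
    have := ShortComplex.SnakeInput.mono_v₀₁_τ₂ snk
    exact IsZero.of_mono_eq_zero snk.v₀₁.τ₂ (zero_of_comp_mono snk.v₁₂.τ₂ snk.w₀₂_τ₂)
  have hz3 : IsZero snk.L₀.X₃ :=
    IsZero.of_epi_eq_zero snk.L₀.g (hz2.eq_of_src _ _)
  exact snk.exact_C₃_up.mono_g (hz3.eq_of_src _ _)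

theorem flat_extSum (Q : preMod (O.over U))
    (hQ : ∀ Y, Module.Flat ((O.over U).obj.obj Y) (Q.obj Y)) (V : Cᵒᵖ) :
    Module.Flat (O.obj.obj V) (extSum O U Q V) := by
  classical
  have : ∀ φ : V.unop ⟶ U, Module.Flat (O.obj.obj V) (fib O U Q V φ) := fun φ =>
    hQ (op (CategoryTheory.Over.mk φ))
  exact Module.Flat.directSum (R := O.obj.obj V) (M := fun φ : V.unop ⟶ U => fib O U Q V φ)

theorem tensorMono_extObj (Q : preMod (O.over U))
    (hQ : ∀ Y, Module.Flat ((O.over U).obj.obj Y) (Q.obj Y)) :
    TensorMono ((shPre O).obj (extObj O U Q)) :=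
  tensorMono_shPre (extObj O U Q) fun V => flat_extSum Q hQ V

theorem tensorMono_extZero_free (Q : preMod (O.over U))
    (hQ : ∀ Y, Module.Flat ((O.over U).obj.obj Y) (Q.obj Y)) :
    TensorMono ((extZero O U).obj ((shPre (O.over U)).obj Q)) :=
  tensorMono_of_iso _ ((extPreShIso O U).app Q) (tensorMono_extObj Q hQ)

theorem tensorMono_extZero_freeU (V : CategoryTheory.Over U) :
    TensorMono ((extZero O U).obj (freeU (O.over U) V)) :=
  tensorMono_extZero_free ((PresheafOfModules.free _).obj (yoneda.obj V)) fun Y =>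
    inferInstanceAs (Module.Flat ((O.over U).obj.obj Y)
      ((yoneda.obj V).obj Y →₀ (O.over U).obj.obj Y))

theorem tensorMono_extZero_sigma {ι : Type u} (Φ : ι → ModSite.Mod (O.over U))
    (h : ∀ i, TensorMono ((extZero O U).obj (Φ i))) : TensorMono ((extZero O U).obj (∐ Φ)) := by
  have : (extZero O U).IsLeftAdjoint := (extZeroAdj O U).isLeftAdjoint
  exact tensorMono_of_iso _ (PreservesCoproduct.iso (extZero O U) Φ).symm (tensorMono_sigma _ h)

theorem tensorMono_extZero_freeCover (M : ModSite.Mod (O.over U)) :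
    TensorMono ((extZero O U).obj (freeCover (O.over U) M)) :=
  tensorMono_extZero_sigma (fun p : Σ V : CategoryTheory.Over U, (freeU (O.over U) V ⟶ M) =>
    freeU (O.over U) p.1) fun p => tensorMono_extZero_freeU p.1

theorem mono_of_natIso {A B : Type*} [Category A] [Category B] {F G : A ⥤ B} (τ : F ≅ G) {X Y : A}
    (f : X ⟶ Y) (h : Mono (F.map f)) : Mono (G.map f) := by
  rw [show G.map f = τ.inv.app X ≫ F.map f ≫ τ.hom.app Y by simp]
  infer_instance

theorem mono_map_extZero_tensor {A B : ModSite.Mod (O.over U)} (f : A ⟶ B) (N : ModSite.Mod O)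
    (h : Mono (((tensorBi (O.over U)).flip.obj ((restr O U).obj N)).map f)) :
    Mono (((tensorBi O).obj N).map ((extZero O U).map f)) := by
  have h₁ : Mono (((tensorBi (O.over U)).flip.obj ((restr O U).obj N) ⋙ extZero O U).map f) :=
    (extZero O U).map_mono _
  have h₂ := mono_of_natIso (projection O U N) f h₁
  exact mono_of_natIso ((tensorBiFlipIso O).app N) ((extZero O U).map f) h₂

theorem shortExact_map_extZero {S : ShortComplex (ModSite.Mod (O.over U))} (hS : S.ShortExact)
    [(extZero O U).PreservesZeroMorphisms] : (S.map (extZero O U)).ShortExact := by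
  have := preservesFiniteLimits_extZero O U
  have : (extZero O U).IsLeftAdjoint := (extZeroAdj O U).isLeftAdjoint
  exact hS.map_of_exact (extZero O U)

instance preservesZeroMorphisms_extZero : (extZero O U).PreservesZeroMorphisms :=
  haveI : (extZero O U).IsLeftAdjoint := (extZeroAdj O U).isLeftAdjoint
  inferInstance

theorem tensorMono_extZero_of_cover {P M : ModSite.Mod (O.over U)} (π : P ⟶ M) [Epi π]
    (hP : TensorMono ((extZero O U).obj P)) (hM : TensorMono M) :
    TensorMono ((extZero O U).obj M) := by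
  let S := ShortComplex.mk (kernel.ι π) π (kernel.condition π)
  have hS : S.ShortExact :=
    { exact := ShortComplex.exact_of_f_is_kernel S (kernelIsKernel π)
      mono_f := inferInstanceAs (Mono (kernel.ι π))
      epi_g := inferInstanceAs (Epi π) }
  have h₁ := shortExact_map_extZero hS
  have hP' : TensorMono (S.map (extZero O U)).X₂ := hP
  have h₂ : ∀ N, Mono (((tensorBi (O.over U)).flip.obj ((restr O U).obj N)).map S.f) := fun N => by
    have h := (shortExact_map_flip S hS hM ((restr O U).obj N)).mono_f
    exact h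
  have h₃ : ∀ N, Mono (((tensorBi O).obj N).map (S.map (extZero O U)).f) := fun N => by
    have h := mono_map_extZero_tensor S.f N (h₂ N)
    exact h
  exact tensorMono_right h₁ hP' h₃

theorem tensorMono_extZero {M : ModSite.Mod (O.over U)} (hM : TensorMono M) :
    TensorMono ((extZero O U).obj M) :=
  tensorMono_extZero_of_cover (freeCoverπ (O.over U) M) (tensorMono_extZero_freeCover M) hM

theorem tensorMono_restr {M : ModSite.Mod O} (hM : TensorMono M) :
    TensorMono ((restr O U).obj M) := by
  refine ⟨fun {N' N} φ _ => ?_⟩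
  have := faithful_extZero O U
  have h₁ : Mono (((tensorBi O).flip.obj M).map ((extZero O U).map φ)) :=
    hM.preserves ((extZero O U).map φ)
  refine (extZero O U).mono_of_mono_map ?_
  have e := (projection O U M).hom.naturality φ
  have h₂ : Mono ((extZero O U).map (((tensorBi (O.over U)).flip.obj ((restr O U).obj M)).map φ) ≫
      (projection O U M).hom.app N) :=
    e.symm ▸ mono_comp' inferInstance h₁
  exact mono_of_mono _ ((projection O U M).hom.app N)

/-- The structure sheaf is a unit for the tensor product. -/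
noncomputable def unitTensorIso (X : ModSite.Mod O) :
    ((tensorBi O).obj (SheafOfModules.unit (ringSh O))).obj X ≅ X :=
  (shPre O).mapIso (λ_ ((toPre O).obj X)) ≪≫ (asIso (preAdj O).counit).app X

end Groth.Agent.ModFlat.Over
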