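import Groth.Agent.KFlat.Flat
import Mathlib.Algebra.Homology.ShortComplex.SnakeLemma
import Mathlib.Algebra.Homology.ShortComplex.Limits
import Mathlib.CategoryTheory.Limits.Preserves.Shapes.Kernels
import Mathlib.CategoryTheory.Monoidal.Preadditive
import Mathlib.CategoryTheory.Monoidal.Braided.Basic

/-!
# Flatness in a braided monoidal abelian category, and for presheaves of modules
-/

set_option autoImplicit false

universe v u

open CategoryTheory CategoryTheory.Limits MonoidalCategory

namespace Groth.Agent.ModFlat.PreTensor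

section Generic

variable {A : Type*} [Category A] [Abelian A] [MonoidalCategory A] [BraidedCategory A]
  [MonoidalPreadditive A] [∀ X : A, PreservesFiniteColimits (tensorRight X)]
  [∀ X : A, PreservesFiniteColimits (tensorLeft X)]

theorem shortExact_map_tensorLeft (henough : ∀ G : A, ∃ (P : A) (π : P ⟶ G), Epi π ∧
      (tensorRight P).PreservesMonomorphisms)
    (S : ShortComplex A) (hS : S.ShortExact) (h₃ : (tensorRight S.X₃).PreservesMonomorphisms) (G : A) :
    (S.map (tensorLeft G)).ShortExact := by
  have hmono := hS.mono_f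
  have hepi := hS.epi_g
  obtain ⟨P, π, _, hP⟩ := henough G
  let ι := kernel.ι π
  have hπ : IsColimit (CokernelCofork.ofπ (f := ι) π (kernel.condition π)) :=
    Abelian.epiIsCokernelOfKernel (KernelFork.ofι ι (kernel.condition π)) (kernelIsKernel π)
  have hz : ∀ X : A, ι ▷ X ≫ π ▷ X = 0 := fun X => by
    rw [← comp_whiskerRight, kernel.condition, MonoidalPreadditive.zero_whiskerRight]
  let v₁₂ : S.map (tensorLeft (kernel π)) ⟶ S.map (tensorLeft P) :=
    S.mapNatTrans ((curriedTensor A).map ι)
  let v₂₃ : S.map (tensorLeft P) ⟶ S.map (tensorLeft G) :=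
    S.mapNatTrans ((curriedTensor A).map π)
  have hcol : ∀ X : A, IsColimit (CokernelCofork.ofπ (f := ι ▷ X) (π ▷ X) (hz X)) := fun X =>
    CokernelCofork.mapIsColimit _ hπ (tensorRight X)
  have w : v₁₂ ≫ v₂₃ = 0 := by
    refine ShortComplex.hom_ext _ _ ?_ ?_ ?_ <;> exact hz _
  have hep : ∀ X : A, Epi ((tensorLeft X).map S.g) := fun X => inferInstance
  have hrex : ∀ X : A, (S.map (tensorLeft X)).Exact := fun X =>
    hS.exact.map_of_epi_of_preservesCokernel _ hepi inferInstance
  have hP' : Mono ((tensorLeft P).map S.f) := by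
    have : (tensorLeft P).PreservesMonomorphisms :=
      Functor.PreservesMonomorphisms.of_iso (BraidedCategory.tensorLeftIsoTensorRight P).symm
    infer_instance
  let snk : ShortComplex.SnakeInput A :=
    { L₀ := kernel v₁₂
      L₁ := S.map (tensorLeft (kernel π))
      L₂ := S.map (tensorLeft P)
      L₃ := S.map (tensorLeft G)
      v₀₁ := kernel.ι v₁₂
      v₁₂ := v₁₂
      v₂₃ := v₂₃
      w₀₂ := kernel.condition _
      w₁₃ := w
      h₀ := kernelIsKernel _
      h₃ := ShortComplex.isColimitOfIsColimitπ _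
        ((CokernelCofork.isColimitMapCoconeEquiv _ _).symm (hcol S.X₁))
        ((CokernelCofork.isColimitMapCoconeEquiv _ _).symm (hcol S.X₂))
        ((CokernelCofork.isColimitMapCoconeEquiv _ _).symm (hcol S.X₃))
      L₁_exact := hrex _
      epi_L₁_g := hep _
      L₂_exact := hrex _
      mono_L₂_f := hP' }
  have h₀ : snk.v₀₁.τ₃ = 0 := by
    have : Mono snk.v₁₂.τ₃ := h₃.preserves ι
    exact zero_of_comp_mono snk.v₁₂.τ₃ snk.w₀₂_τ₃
  have hm₀ : Mono snk.v₀₁.τ₃ := ShortComplex.SnakeInput.mono_v₀₁_τ₃ snk
  have hδ : snk.δ = 0 := by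
    have : IsZero snk.L₀.X₃ := IsZero.of_mono_eq_zero snk.v₀₁.τ₃ h₀
    exact this.eq_of_src _ _
  exact { exact := hrex G, mono_f := snk.L₂'_exact.mono_g hδ, epi_g := hep G }

theorem shortExact_map_tensorRight (henough : ∀ G : A, ∃ (P : A) (π : P ⟶ G), Epi π ∧
      (tensorRight P).PreservesMonomorphisms)
    (S : ShortComplex A) (hS : S.ShortExact) (h₃ : (tensorRight S.X₃).PreservesMonomorphisms) (G : A)
    [(tensorRight G).PreservesZeroMorphisms] :
    (S.map (tensorRight G)).ShortExact :=
  ShortComplex.shortExact_of_iso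
    (S.mapNatIso (BraidedCategory.tensorLeftIsoTensorRight G))
    (shortExact_map_tensorLeft henough S hS h₃ G)

end Generic

section Presheaf

variable {C : Type u} [SmallCategory C] (O : Cᵒᵖ ⥤ CommRingCat.{u})

/-- Presheaves of modules over `O`. -/
abbrev PM : Type (u + 1) := PresheafOfModules.{u} (O ⋙ forget₂ CommRingCat.{u} RingCat.{u})

instance monoidalPreadditive_PM : MonoidalPreadditive (PM O) where
  whiskerLeft_zero := by intros; ext1 U; simp [MonoidalPreadditive.whiskerLeft_zero]; try rfl
  zero_whiskerRight := by intros; ext1 U; simp [MonoidalPreadditive.zero_whiskerRight]; try rfl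
  whiskerLeft_add := by intros; ext1 U; simp [MonoidalPreadditive.whiskerLeft_add]; try rfl
  add_whiskerRight := by intros; ext1 U; simp [MonoidalPreadditive.add_whiskerRight]; try rfl

variable {O}

theorem tensorRight_preservesMonomorphisms {F : PM O} (hF : ∀ X, Module.Flat (O.obj X) (F.obj X)) :
    (tensorRight F).PreservesMonomorphisms :=
  ⟨fun {P P'} f _ => PresheafOfModules.mono_of_injective fun V =>
    Groth.Agent.KFlat.injective_whiskerRight (A := O.obj V) (M := F.obj V) (hF V) (f.app V)
      (PresheafOfModules.injective_of_mono f V)⟩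

theorem preservesFiniteLimits_tensorRight {F : PM O} (h : (tensorRight F).PreservesMonomorphisms) :
    PreservesFiniteLimits (tensorRight F) := by
  have : (tensorRight F).PreservesHomology :=
    Functor.preservesHomology_of_preservesMonos_and_cokernels _
  exact Functor.preservesFiniteLimits_of_preservesHomology _

theorem exists_flat_cover (G : PM O) : ∃ (P : PM O) (π : P ⟶ G), Epi π ∧
    (tensorRight P).PreservesMonomorphisms := by
  let Gt : Cᵒᵖ ⥤ Type u := G.presheaf ⋙ forget _
  refine ⟨PresheafOfModules.freeObj Gt, PresheafOfModules.freeObjDesc (𝟙 Gt),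
    PresheafOfModules.epi_of_surjective fun V m => ⟨ModuleCat.freeMk m, ModuleCat.freeDesc_apply _ _⟩,
    tensorRight_preservesMonomorphisms fun V => ?_⟩
  exact (inferInstanceAs (Module.Flat (O.obj V) (Gt.obj V →₀ O.obj V)))

end Presheaf

end Groth.Agent.ModFlat.PreTensor
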